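import Cfsg.Agent.G2Deg.Radical

/-!
The action of the parabolic subgroup on the binary cubics.
-/

set_option autoImplicit false
set_option maxRecDepth 100000

namespace Cfsg.Agent.G2Deg

open Cfsg.Lie

universe u

variable {F : Type u} [Field F]

/-- Translation of a cubic. -/
def opA (a : F) (B : Fin 4 → F) : Fin 4 → F :=
  ![B 0 - a * B 1 + a ^ 2 * B 2 + a ^ 3 * B 3, B 1 - 2 * a * B 2 - 3 * a ^ 2 * B 3,
    B 2 + 3 * a * B 3, B 3]

/-- Translation in the other chart. -/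
def opD (a : F) (B : Fin 4 → F) : Fin 4 → F :=
  ![B 0, B 1 - 3 * a * B 0, B 2 - 2 * a * B 1 + 3 * a ^ 2 * B 0,
    B 3 + a * B 2 - a ^ 2 * B 1 + a ^ 3 * B 0]

/-- Torus. -/
def opH (a b : F) (B : Fin 4 → F) : Fin 4 → F :=
  ![b ^ 2 / a ^ 3 * B 0, b / a * B 1, a * B 2, a ^ 3 / b * B 3]

theorem word_append : ∀ l l' : List (ℕ × F), word (l ++ l') = word l * word l'
  | [], l' => (one_mul _).symm
  | x :: l, l' => by
    show xx x.1 x.2 * word (l ++ l') = xx x.1 x.2 * word l * word l'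
    rw [word_append l l', mul_assoc]

theorem word_mem : ∀ l : List (ℕ × F),
    (∀ x ∈ l, x.1 = 6 ∨ x.1 = 8 ∨ x.1 = 9 ∨ x.1 = 10 ∨ x.1 = 11) → word l ∈ HQ F
  | [], _ => one_mem _
  | x :: l, h => by
    refine mul_mem ?_ (word_mem l fun y hy => h y (List.mem_cons_of_mem _ hy))
    rcases h x List.mem_cons_self with e | e | e | e | e <;> rw [e]
    exacts [xs_mem 0 _, xs_mem 1 _, xs_mem 2 _, xs_mem 3 _, zz_mem _]

theorem inRad_comm : ∀ r : Fin 12, r.1 = 7 ∨ r.1 = 4 → ∀ S : Fin 4,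
    ∀ x ∈ chevG2.commTerms r (rQ S), x.1 = 6 ∨ x.1 = 8 ∨ x.1 = 9 ∨ x.1 = 10 ∨ x.1 = 11 := by
  decide +kernel

/-- The word of a conjugate. -/
noncomputable def conjWord (r : ℕ) (a : F) (S : Fin 4) (u : F) : List (ℕ × F) :=
  (rQ S, u) :: chevG2.commWord F r (rQ S) (-a) u

theorem conjWord_rad {r : Fin 12} (hr : r.1 = 7 ∨ r.1 = 4) (a : F) (S : Fin 4) (u : F) :
    ∀ x ∈ conjWord r.1 a S u, x.1 = 6 ∨ x.1 = 8 ∨ x.1 = 9 ∨ x.1 = 10 ∨ x.1 = 11 := by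
  intro x hx
  rcases List.mem_cons.1 hx with rfl | hx
  · fin_cases S <;> simp [rQ]
  · obtain ⟨c, hc, rfl⟩ := List.mem_map.1 hx
    exact inRad_comm r hr S c hc

theorem conjWord_eq {r : Fin 12} (hr : r.1 = 7 ∨ r.1 = 4) (a : F) (S : Fin 4) (u : F) :
    xx r.1 a * xs S u * (xx r.1 a)⁻¹ = word (conjWord r.1 a S u) := by
  obtain ⟨⟨h4, h4'⟩, h7, h7'⟩ := chk_levi S
  refine xx_conj r.2 (rQ_lt S) ?_ ?_ a u
  · rcases hr with e | e <;> rw [e]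
    exacts [h7, h4]
  · rcases hr with e | e <;> rw [e]
    exacts [h7', h4']

theorem zz_commute_levi {r : Fin 12} (hr : r.1 = 7 ∨ r.1 = 4) (a v : F) :
    Commute (xx r.1 a) (zz v) :=
  (zz_commute_of r (by rcases hr with e | e <;> simp [e]) a v).symm

theorem nrm_levi {r : Fin 12} (hr : r.1 = 7 ∨ r.1 = 4) (a : F) : Nrm (xx r.1 a) :=
  nrm_of_gens (fun S u => by
    rw [conjWord_eq hr]
    exact word_mem _ (conjWord_rad hr a S u))
    fun v => ⟨v, by rw [(zz_commute_levi hr a v).eq, mul_inv_cancel_right]⟩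

theorem nrm_seven (a : F) : Nrm (xx 7 a) := nrm_levi (r := 7) (Or.inl rfl) a

theorem nrm_four (a : F) : Nrm (xx 4 a) := nrm_levi (r := 4) (Or.inr rfl) a

theorem chi_vals (a b : Fˣ) :
    ((a ^ chevG2.cartan 0 6 * b ^ chevG2.cartan 1 6 : Fˣ) : F) = (b : F) ^ 2 / (a : F) ^ 3 ∧
    ((a ^ chevG2.cartan 0 8 * b ^ chevG2.cartan 1 8 : Fˣ) : F) = (b : F) / (a : F) ∧
    ((a ^ chevG2.cartan 0 9 * b ^ chevG2.cartan 1 9 : Fˣ) : F) = (a : F) ∧
    ((a ^ chevG2.cartan 0 10 * b ^ chevG2.cartan 1 10 : Fˣ) : F) = (a : F) ^ 3 / (b : F) ∧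
    ((a ^ chevG2.cartan 0 11 * b ^ chevG2.cartan 1 11 : Fˣ) : F) = (b : F) := by
  obtain ⟨⟨a6, b6⟩, ⟨a8, b8⟩, ⟨a9, b9⟩, ⟨a10, b10⟩, a11, b11⟩ := chk_cartan
  rw [a6, b6, a8, b8, a9, b9, a10, b10, a11, b11]
  refine ⟨?_, ?_, ?_, ?_, ?_⟩
  all_goals
    simp only [Units.val_mul, Units.val_zpow_eq_zpow_val]
    simp [zpow_neg, div_eq_inv_mul, mul_comm]

theorem hh_xs (a b : Fˣ) (S : Fin 4) (u : F) :
    hh a b * xs S u * (hh a b)⁻¹ =
      xs S ((![(b : F) ^ 2 / (a : F) ^ 3, (b : F) / (a : F), (a : F), (a : F) ^ 3 / (b : F)] :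
        Fin 4 → F) S * u) := by
  obtain ⟨h6, h8, h9, h10, -⟩ := chi_vals a b
  show hh a b * xx (rQ S) u * (hh a b)⁻¹ = xx (rQ S) _
  rw [hh_conj a b (rQ_lt S)]
  congr 2
  fin_cases S
  exacts [h6, h8, h9, h10]

theorem hh_zz (a b : Fˣ) (v : F) : hh a b * zz v * (hh a b)⁻¹ = zz ((b : F) * v) := by
  show hh a b * xx 11 v * (hh a b)⁻¹ = xx 11 _
  rw [hh_conj a b (by decide), (chi_vals a b).2.2.2.2]

theorem nrm_hh (a b : Fˣ) : Nrm (hh a b) :=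
  nrm_of_gens (fun S u => by rw [hh_xs]; exact xs_mem _ _) fun v => ⟨_, hh_zz a b v⟩

theorem nrm_weyl {g : Gp F} (hz : ∃ c : F, c ≠ 0 ∧ ∀ v, g * zz v * g⁻¹ = zz (c * v))
    (hx : ∀ S : Fin 4, ∃ c : F, c ≠ 0 ∧ ∀ v, g * xs S v * g⁻¹ = xs S.rev (c * v)) : Nrm g := by
  obtain ⟨c, -, hc⟩ := hz
  refine nrm_of_gens (fun S u => ?_) fun v => ⟨_, hc v⟩
  obtain ⟨d, -, hd⟩ := hx S
  rw [hd]
  exact xs_mem _ _

variable [Fintype F]

theorem BQ_seven (a : F) (Λ : Chi F) : BQ (actL (nrm_seven a) Λ) = opA a (BQ Λ) := by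
  obtain ⟨h6, h8, h9, h10⟩ := chk_seven
  funext S
  refine BQ_actL _ Λ S _ (conjWord 7 a S) (conjWord_rad (r := 7) (Or.inl rfl) a S)
    (conjWord_eq (r := 7) (Or.inl rfl) a S) fun u => ?_
  fin_cases S
  · simp [conjWord, ChevalleyDatum.commWord, rQ, h6, valQ, opA]; ring
  · simp [conjWord, ChevalleyDatum.commWord, rQ, h8, valQ, opA]; ring
  · simp [conjWord, ChevalleyDatum.commWord, rQ, h9, valQ, opA]; ring
  · simp [conjWord, ChevalleyDatum.commWord, rQ, h10, valQ, opA]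

theorem BQ_four (a : F) (Λ : Chi F) : BQ (actL (nrm_four a) Λ) = opD a (BQ Λ) := by
  obtain ⟨h10, h9, h8, h6⟩ := chk_four
  funext S
  refine BQ_actL _ Λ S _ (conjWord 4 a S) (conjWord_rad (r := 4) (Or.inr rfl) a S)
    (conjWord_eq (r := 4) (Or.inr rfl) a S) fun u => ?_
  fin_cases S
  · simp [conjWord, ChevalleyDatum.commWord, rQ, h6, valQ, opD]
  · simp [conjWord, ChevalleyDatum.commWord, rQ, h8, valQ, opD]; ring
  · simp [conjWord, ChevalleyDatum.commWord, rQ, h9, valQ, opD]; ring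
  · simp [conjWord, ChevalleyDatum.commWord, rQ, h10, valQ, opD]; ring

theorem BQ_hh (a b : Fˣ) (Λ : Chi F) : BQ (actL (nrm_hh a b) Λ) = opH (a : F) (b : F) (BQ Λ) := by
  funext S
  refine BQ_eq fun u => ?_
  have e : conjE (nrm_hh a b) ⟨xs S u, xs_mem S u⟩ =
      ⟨xs S ((![(b : F) ^ 2 / (a : F) ^ 3, (b : F) / (a : F), (a : F), (a : F) ^ 3 / (b : F)] :
        Fin 4 → F) S * u), xs_mem _ _⟩ := Subtype.ext (hh_xs a b S u)
  rw [lamH_actL, e, BQ_spec]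
  congr 1
  fin_cases S <;> simp [opH] <;> ring

/-- The reversal of the coefficients, up to signs. -/
theorem exists_rev : ∃ (g : Gp F) (hg : Nrm g) (c : Fin 4 → F), (∀ S, c S ≠ 0) ∧
    ∀ Λ S, BQ (actL hg Λ) S = c S * BQ Λ S.rev := by
  obtain ⟨g, hz, hx⟩ := exists_weyl (F := F)
  choose c hc hcx using hx
  refine ⟨g, nrm_weyl hz fun S => ⟨c S, hc S, hcx S⟩, c, hc, fun Λ S => BQ_eq fun u => ?_⟩
  have e : conjE (nrm_weyl hz fun S => ⟨c S, hc S, hcx S⟩) ⟨xs S u, xs_mem S u⟩ =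
      ⟨xs S.rev (c S * u), xs_mem _ _⟩ := Subtype.ext (hcx S u)
  rw [lamH_actL, e, BQ_spec]
  congr 1
  ring

end Cfsg.Agent.G2Deg
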