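import Cfsg.Agent.E6Deg.Arith
import Mathlib.Algebra.IsPrimePow
import Mathlib.Tactic.NormNum.Prime

/-!
The arithmetic of the exceptional degrees.
-/

set_option autoImplicit false
set_option maxRecDepth 100000

namespace Cfsg.Agent.G2Deg

theorem chk_small : ∀ q < 350, q % 3 = 1 → 7 ≤ q → q ≠ 10 →
    ¬ q * q + 3 * q + 5 ∣ 3 * q ^ 3 * (q - 1) * (q + 1) * (q * q + q + 1) := by
  decide +kernel

theorem chk_small' : ∀ q < 14, q % 3 = 1 → 7 ≤ q →
    ¬ q ^ 3 + 2 * q ^ 2 + 2 * q - 2 ∣ 3 * q ^ 3 * (q - 1) ^ 2 * (q + 1) * (q * q + q + 1) := by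
  decide +kernel

/-- No irreducible degree of this shape. -/
theorem no_long_degree {q m f : ℕ} (h1 : q % 3 = 1) (h7 : 7 ≤ q) (hpp : IsPrimePow q) (hf : f ≤ 1)
    (hm : 3 * m = 3 * f + (q - 1) * (q * q + 3 * q + 5))
    (hd : m ∣ q ^ 3 * (q - 1) ^ 2 * (q + 1) * (q * q + q + 1)) : False := by
  have h3 := Nat.mul_dvd_mul_left 3 hd
  rw [hm] at h3
  have hZ : ((3 * f + (q - 1) * (q * q + 3 * q + 5) : ℕ) : ℤ) ∣
      ((3 * (q ^ 3 * (q - 1) ^ 2 * (q + 1) * (q * q + q + 1)) : ℕ) : ℤ) := Int.natCast_dvd_natCast.2 h3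
  push_cast [Nat.cast_sub (show 1 ≤ q by omega)] at hZ
  set x : ℤ := (q : ℤ) with hx
  rcases (by omega : f = 0 ∨ f = 1) with rfl | rfl
  · set M : ℤ := x * x + 3 * x + 5 with hM
    have hne : (x - 1) ≠ 0 := by rw [hx]; omega
    have h4 : M ∣ ((x - 1) * (x + 1) * (x * x + x + 1) * 3) * x ^ 3 := by
      refine (mul_dvd_mul_iff_left hne).1 ?_
      rw [Nat.cast_zero, mul_zero, zero_add] at hZ
      rw [show (x - 1) * ((x - 1) * (x + 1) * (x * x + x + 1) * 3 * x ^ 3) =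
        3 * (x ^ 3 * (x - 1) ^ 2 * (x + 1) * (x * x + x + 1)) by ring]
      exact hZ
    have b0 : (5 : ℤ) = 1 * M + (-(x + 3)) * x := by rw [hM]; ring
    have b1 : (9 : ℤ) = 1 * M + (-(x + 4)) * (x - 1) := by rw [hM]; ring
    have b2 : (3 : ℤ) = 1 * M + (-(x + 2)) * (x + 1) := by rw [hM]; ring
    have b3 : (12 : ℤ) = (-(2 * x - 2)) * M + (2 * x + 2) * (x * x + x + 1) := by rw [hM]; ring
    have h5 := E6Deg.strip b0 (X := (x - 1) * (x + 1) * (x * x + x + 1) * 3) 3 h4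
    have h6 := E6Deg.strip b1 (X := (x + 1) * (x * x + x + 1) * 3 * 5 ^ 3) 1
      (by convert h5 using 1; ring)
    have h7' := E6Deg.strip b2 (X := (x * x + x + 1) * 3 * 5 ^ 3 * 9) 1 (by convert h6 using 1; ring)
    have h8 := E6Deg.strip b3 (X := 3 * 5 ^ 3 * 9 * 3) 1 (by convert h7' using 1; ring)
    have hle := Int.le_of_dvd (by norm_num) h8
    have hlt : q < 350 := by
      by_contra hc
      have : (350 : ℤ) ≤ x := by rw [hx]; omega
      rw [hM] at hle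
      nlinarith
    have h10 : q ≠ 10 := fun e => by
      obtain ⟨p, j, hp, hj, hpj⟩ := hpp
      rw [e] at hpj
      have h2 := (Nat.prime_dvd_prime_iff_eq Nat.prime_two hp.nat_prime).1
        (Nat.prime_two.dvd_of_dvd_pow (n := j) (hpj ▸ (by norm_num : 2 ∣ 10)))
      have h5 := (Nat.prime_dvd_prime_iff_eq (by norm_num : Nat.Prime 5) hp.nat_prime).1
        ((by norm_num : Nat.Prime 5).dvd_of_dvd_pow (n := j) (hpj ▸ (by norm_num : 5 ∣ 10)))
      omega
    refine chk_small q hlt h1 h7 h10 ?_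
    refine Int.natCast_dvd_natCast.1 ?_
    push_cast [Nat.cast_sub (show 1 ≤ q by omega)]
    rw [← hx]
    convert h4 using 1 ; ring
  · set N : ℤ := x ^ 3 + 2 * x ^ 2 + 2 * x - 2 with hN
    have h4 : N ∣ ((x - 1) ^ 2 * (x + 1) * (x * x + x + 1) * 3) * x ^ 3 := by
      rw [Nat.cast_one, mul_one, show (3 : ℤ) + (x - 1) * (x * x + 3 * x + 5) = N by rw [hN]; ring] at hZ
      rw [show (x - 1) ^ 2 * (x + 1) * (x * x + x + 1) * 3 * x ^ 3 =
        3 * (x ^ 3 * (x - 1) ^ 2 * (x + 1) * (x * x + x + 1)) by ring]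
      exact hZ
    have b0 : (2 : ℤ) = (-1) * N + (x ^ 2 + 2 * x + 2) * x := by rw [hN]; ring
    have b1 : (3 : ℤ) = 1 * N + (-(x * x + 3 * x + 5)) * (x - 1) := by rw [hN]; ring
    have b2 : (3 : ℤ) = (-1) * N + (x * x + x + 1) * (x + 1) := by rw [hN]; ring
    have b3 : (3 : ℤ) = (-1) * N + (x + 1) * (x * x + x + 1) := by rw [hN]; ring
    have h5 := E6Deg.strip b0 (X := (x - 1) ^ 2 * (x + 1) * (x * x + x + 1) * 3) 3 h4
    have h6 := E6Deg.strip b1 (X := (x + 1) * (x * x + x + 1) * 3 * 2 ^ 3) 2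
      (by convert h5 using 1; ring)
    have h7' := E6Deg.strip b2 (X := (x * x + x + 1) * 3 * 2 ^ 3 * 3 ^ 2) 1 (by convert h6 using 1; ring)
    have h8 := E6Deg.strip b3 (X := 3 * 2 ^ 3 * 3 ^ 2 * 3) 1 (by convert h7' using 1; ring)
    have hle := Int.le_of_dvd (by norm_num) h8
    have hlt : q < 14 := by
      by_contra hc
      have : (14 : ℤ) ≤ x := by rw [hx]; omega
      rw [hN] at hle
      nlinarith
    refine chk_small' q hlt h1 h7 ?_
    refine Int.natCast_dvd_natCast.1 ?_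
    have h2 : 2 ≤ q ^ 3 + 2 * q ^ 2 + 2 * q := by
      have : q ≤ q ^ 3 := Nat.le_self_pow (by norm_num) q
      omega
    push_cast [Nat.cast_sub (show 1 ≤ q by omega), Nat.cast_sub h2]
    rw [← hx]
    convert h4 using 1 ; ring

end Cfsg.Agent.G2Deg
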