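import Cfsg.Agent.G2Deg.Orbit

/-!
Small weights away from characteristic three.
-/

set_option autoImplicit false
set_option maxRecDepth 100000

namespace Cfsg.Agent.G2Deg

universe u

variable {F : Type u} [Field F] [Fintype F] [DecidableEq F] {D : (Fin 4 → F) → ℕ}

theorem SS_true : SS D (fun _ => True) = D 0 + SS D (fun B => B ≠ 0) := by
  rw [SS, SS, Finset.filter_true, Finset.filter_ne',
    Finset.add_sum_erase _ _ (Finset.mem_univ _)]

/-- The cubes with non-zero leading coefficient. -/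
def cubeTop (F : Type u) [Field F] [Fintype F] [DecidableEq F] : Finset (Fin 4 → F) :=
  ((Finset.univ.filter fun x : F => x ≠ 0) ×ˢ Finset.univ).image
    fun r : F × F => opA r.2 ![0, 0, 0, r.1]

/-- The constant cubes. -/
def cubeConst (F : Type u) [Field F] [Fintype F] [DecidableEq F] : Finset (Fin 4 → F) :=
  (Finset.univ.filter fun x : F => x ≠ 0).image fun b => ![b, 0, 0, 0]

theorem mem_cubeTop {B : Fin 4 → F} (h : B ∈ cubeTop F) : IsCube B ∧ B 3 ≠ 0 := by
  obtain ⟨r, hr, rfl⟩ := Finset.mem_image.1 h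
  have hl : r.1 ≠ 0 := by
    simp only [Finset.mem_product, Finset.mem_filter, Finset.mem_univ, true_and, and_true] at hr
    exact hr
  exact ⟨cube_param hl, by simpa [opA] using hl⟩

theorem mem_cubeConst {B : Fin 4 → F} (h : B ∈ cubeConst F) : IsCube B ∧ B 3 = 0 := by
  obtain ⟨b, hb, rfl⟩ := Finset.mem_image.1 h
  have hb' : b ≠ 0 := (Finset.mem_filter.1 hb).2
  exact ⟨⟨fun h0 => hb' (congrFun h0 0), Or.inl ⟨rfl, rfl, rfl⟩⟩, rfl⟩

theorem card_cubeConst : (cubeConst F).card = Fintype.card F - 1 := by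
  rw [cubeConst, Finset.card_image_of_injective _ fun a b h => congrFun h 0, Finset.filter_ne',
    Finset.card_erase_of_mem (Finset.mem_univ _), Finset.card_univ]

theorem card_cubeTop (hthree : (3 : F) ≠ 0) :
    (cubeTop F).card = (Fintype.card F - 1) * Fintype.card F := by
  rw [cubeTop, Finset.card_image_of_injOn, Finset.card_product, Finset.filter_ne',
    Finset.card_erase_of_mem (Finset.mem_univ _), Finset.card_univ]
  intro r hr r' hr' h
  simp only [Finset.coe_product, Set.mem_prod, Finset.coe_filter, Finset.mem_univ, true_and,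
    Set.mem_setOf_eq, Finset.coe_univ, Set.mem_univ, and_true] at hr
  have h2 := congrFun h 2
  have h3 := congrFun h 3
  simp [opA] at h2 h3
  rw [← h3] at h2
  refine Prod.ext h3 ?_
  exact mul_left_cancel₀ hthree (mul_right_cancel₀ hr h2)

/-- The conclusion away from characteristic three. -/
theorem Wt.away (hW : Wt D) {k : ℕ} (h3 : Fintype.card F % 3 ≠ 0) (h5 : 5 ≤ Fintype.card F)
    (hthree : (3 : F) ≠ 0)
    (hk : k = SS D (fun _ => True) + Fintype.card F * SS D (fun B => B 0 ≠ 0))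
    (hN : 0 < SS D (fun B => B 0 ≠ 0)) :
    Fintype.card F ^ 3 + 1 ≤ k ∨ ((∀ B : Fin 4 → F, B ≠ 0 → ¬ IsCube B → D B = 0) ∧
      0 < D ![1, 0, 0, 0] ∧
      D 0 + D ![1, 0, 0, 0] * (Fintype.card F ^ 3 - 1) ≤ k) := by
  classical
  set q := Fintype.card F with hqdef
  set S := SS D (fun B => B ≠ 0) with hS
  set N := SS D (fun B => B 0 ≠ 0) with hNdef
  rw [SS_true, ← hS] at hk
  by_cases hsup : ∀ B : Fin 4 → F, B ≠ 0 → ¬ IsCube B → D B = 0
  · right
    set d := D ![1, 0, 0, 0] with hd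
    have hpos : 0 < d := by
      by_contra h0
      have : N = 0 := Finset.sum_eq_zero fun B hB => by
        have hne : B ≠ 0 := fun h => (Finset.mem_filter.1 hB).2 (congrFun h 0)
        by_cases hcube : IsCube B
        · rw [hW.cube_eq hcube]; omega
        · exact hsup B hne hcube
      omega
    refine ⟨hsup, hpos, ?_⟩
    have hdis : Disjoint (cubeTop F) (cubeConst F) :=
      Finset.disjoint_left.2 fun B hB hB' => (mem_cubeTop hB).2 (mem_cubeConst hB').2
    have h1 : ((q - 1) * q + (q - 1)) * d ≤ S := by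
      rw [hqdef, ← card_cubeTop hthree, ← card_cubeConst, ← Finset.card_union_of_disjoint hdis]
      refine le_SS _ fun B hB => ?_
      rcases Finset.mem_union.1 hB with h | h
      · exact ⟨(mem_cubeTop h).1.1, le_of_eq (hW.cube_eq (mem_cubeTop h).1).symm⟩
      · exact ⟨(mem_cubeConst h).1.1, le_of_eq (hW.cube_eq (mem_cubeConst h).1).symm⟩
    have h2 : (q - 1) * q * d ≤ N := by
      rw [hNdef, ← hW.SS_infty, hqdef, ← card_cubeTop hthree]
      exact le_SS _ fun B hB => ⟨(mem_cubeTop hB).2, le_of_eq (hW.cube_eq (mem_cubeTop hB).1).symm⟩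
    have h3' := Nat.mul_le_mul_left q h2
    have e : ((q - 1) * q + (q - 1)) * d + q * ((q - 1) * q * d) = d * (q ^ 3 - 1) := by
      obtain ⟨n, hn⟩ : ∃ n, q = n + 1 := ⟨q - 1, by omega⟩
      have h' : q ^ 3 - 1 = n ^ 3 + 3 * n ^ 2 + 3 * n := by
        rw [hn]; refine Nat.sub_eq_of_eq_add ?_; ring
      rw [h', hn, Nat.add_sub_cancel]
      ring
    omega
  · left
    push Not at hsup
    obtain ⟨B, hB, hc, hd⟩ := hsup
    have hS2 := hW.orbit_large h3 h5 hthree hB hc (Nat.pos_of_ne_zero hd)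
    have hb := hW.nonroot_bound
    rw [← hS, ← hNdef, ← hqdef] at hb
    rw [← hS, ← hqdef] at hS2
    have hk' : S + q * N ≤ k := by omega
    obtain ⟨n, hn⟩ : ∃ n, q = n + 2 := ⟨q - 2, by omega⟩
    rw [hn, Nat.add_sub_cancel] at hb
    rw [hn] at hS2 hk' ⊢
    by_contra hlt
    nlinarith [Nat.mul_le_mul_left (n + 2) hb, Nat.mul_le_mul_left (n + 2 + 1) hk',
      Nat.mul_le_mul_left (n + 2 + 1 + (n + 2) * n) hS2]

end Cfsg.Agent.G2Deg
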