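import Cfsg.Agent.G2Deg.Away
import Mathlib.GroupTheory.Perm.Cycle.Type
import Mathlib.RingTheory.IntegralDomain
import Mathlib.FieldTheory.Finite.Basic

/-!
Supports made of cubes, and the cubes of a finite field.
-/

set_option autoImplicit false
set_option maxRecDepth 100000

namespace Cfsg.Agent.G2Deg

universe u

variable {F : Type u} [Field F] [Fintype F] [DecidableEq F]

/-- A primitive cube root of one. -/
theorem exists_omega (h : Fintype.card F % 3 = 1) :
    ∃ w : F, w ^ 3 = 1 ∧ w ≠ 1 ∧ w ^ 2 + w + 1 = 0 := by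
  classical
  haveI : Fact (Nat.Prime 3) := ⟨Nat.prime_three⟩
  have h3 : 3 ∣ Fintype.card Fˣ := by
    rw [Fintype.card_units]
    have := Fintype.card_pos (α := F)
    omega
  obtain ⟨w, hw⟩ := exists_prime_orderOf_dvd_card 3 h3
  have hw3 : (w : F) ^ 3 = 1 := by
    have := pow_orderOf_eq_one w
    rw [hw] at this
    rw [← Units.val_pow_eq_pow_val, this, Units.val_one]
  have hne : (w : F) ≠ 1 := fun h => by
    rw [Units.val_eq_one.1 h, orderOf_one] at hw
    omega
  refine ⟨w, hw3, hne, ?_⟩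
  have h' : ((w : F) - 1) * ((w : F) ^ 2 + w + 1) = 0 := by linear_combination hw3
  exact (mul_eq_zero.1 h').resolve_left (sub_ne_zero.2 hne)

theorem cube_eq_one {w a : F} (hw : w ^ 3 = 1) (hw2 : w ^ 2 + w + 1 = 0) (ha : a ^ 3 = 1) :
    a = 1 ∨ a = w ∨ a = w * w := by
  have h : (a - 1) * ((a - w) * (a - w * w)) = 0 := by
    linear_combination ha + (-a ^ 2 + a * w) * hw2 - 1 * hw
  rcases mul_eq_zero.1 h with h | h
  · exact Or.inl (sub_eq_zero.1 h)
  · rcases mul_eq_zero.1 h with h | h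
    · exact Or.inr (Or.inl (sub_eq_zero.1 h))
    · exact Or.inr (Or.inr (sub_eq_zero.1 h))

/-- The non-zero cubes. -/
def cubes (F : Type u) [Field F] [Fintype F] [DecidableEq F] : Finset F :=
  (Finset.univ.filter fun x : F => x ≠ 0).image fun x => x ^ 3

theorem mem_cubes {y : F} : y ∈ cubes F ↔ ∃ x : F, x ≠ 0 ∧ x ^ 3 = y := by
  simp [cubes]

theorem card_cubes (h : Fintype.card F % 3 = 1) : 3 * (cubes F).card = Fintype.card F - 1 := by
  classical
  obtain ⟨w, hw, hne, hw2⟩ := exists_omega h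
  have hw0 : w ≠ 0 := fun h0 => by rw [h0] at hw; simp at hw
  have hw2ne : w * w ≠ 1 := fun e => hne (by
    calc w = w * (w * w) := by rw [e, mul_one]
      _ = 1 := by rw [← hw]; ring)
  have hww : w * w ≠ w := fun e => hne (mul_right_cancel₀ hw0 (e.trans (one_mul w).symm))
  have hfib : ∀ y ∈ cubes F,
      ((Finset.univ.filter fun x : F => x ≠ 0).filter fun x => x ^ 3 = y).card = 3 := by
    intro y hy
    obtain ⟨x, hx, rfl⟩ := mem_cubes.1 hy
    have e : ((Finset.univ.filter fun z : F => z ≠ 0).filter fun z => z ^ 3 = x ^ 3) =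
        ({x, x * w, x * (w * w)} : Finset F) := by
      ext z
      simp only [Finset.mem_filter, Finset.mem_univ, true_and, Finset.mem_insert,
        Finset.mem_singleton]
      constructor
      · rintro ⟨-, hz⟩
        have h1 : (z / x) ^ 3 = 1 := by rw [div_pow, hz, div_self (pow_ne_zero _ hx)]
        rcases cube_eq_one hw hw2 h1 with h2 | h2 | h2 <;> rw [div_eq_iff hx] at h2 <;> rw [h2]
        · exact Or.inl (one_mul x)
        · exact Or.inr (Or.inl (mul_comm _ _))
        · exact Or.inr (Or.inr (mul_comm _ _))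
      · rintro (rfl | rfl | rfl)
        · exact ⟨hx, rfl⟩
        · exact ⟨mul_ne_zero hx hw0, by rw [mul_pow, hw, mul_one]⟩
        · exact ⟨mul_ne_zero hx (mul_ne_zero hw0 hw0), by rw [mul_pow, mul_pow, hw, mul_one, mul_one]⟩
    rw [e, Finset.card_eq_three]
    refine ⟨_, _, _, ?_, ?_, ?_, rfl⟩
    · exact fun e => hne (mul_left_cancel₀ hx ((mul_one x).trans e)).symm
    · exact fun e => hw2ne (mul_left_cancel₀ hx ((mul_one x).trans e)).symm
    · exact fun e => hww (mul_left_cancel₀ hx e).symm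
  have h1 := Finset.card_eq_sum_card_image (fun x : F => x ^ 3)
    (Finset.univ.filter fun x : F => x ≠ 0)
  rw [← cubes, Finset.sum_congr rfl hfib, Finset.sum_const, smul_eq_mul, Finset.filter_ne',
    Finset.card_erase_of_mem (Finset.mem_univ _), Finset.card_univ] at h1
  omega

variable {D : (Fin 4 → F) → ℕ}

/-- The cubes with vanishing leading coefficient. -/
theorem cube_top_zero {B : Fin 4 → F} (h : IsCube B) (h3 : B 3 = 0) : B 1 = 0 ∧ B 2 = 0 := by
  obtain ⟨hne, ⟨-, h2, h1⟩ | ⟨a, h0, h1, h2⟩⟩ := h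
  · exact ⟨h1, h2⟩
  · refine absurd (opA_inj a (show opA a B = opA a 0 from funext fun S => ?_)) hne
    fin_cases S <;> simp_all [opA]

/-- The cubes with leading coefficient. -/
theorem cube_top_ne {B : Fin 4 → F} (h : IsCube B) (h3 : B 3 ≠ 0) :
    ∃ a, B = opA a ![0, 0, 0, B 3] := by
  obtain ⟨-, ⟨h, -, -⟩ | ⟨a, h0, h1, h2⟩⟩ := h
  · exact absurd h h3
  · refine ⟨-a, ?_⟩
    rw [show ![0, 0, 0, B 3] = opA a B from funext fun S => by
      fin_cases S
      exacts [h0.symm, h1.symm, h2.symm, rfl], opA_opA, neg_add_cancel, opA_zero]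

theorem Wt.tot_axis (hW : Wt D) (hsup : ∀ B : Fin 4 → F, B ≠ 0 → ¬ IsCube B → D B = 0) {b : F}
    (hb : b ≠ 0) : SS D (fun B => B 0 = b ∧ B 3 = 0) = D ![1, 0, 0, 0] := by
  rw [← hW.const_vec hb one_ne_zero, SS]
  refine Finset.sum_eq_single_of_mem ![b, 0, 0, 0] ?_ fun B hB hne => ?_
  · simp
  · obtain ⟨h0, h3⟩ := (Finset.mem_filter.1 hB).2
    refine hsup B (fun e => hb (by rw [← h0, e]; rfl)) fun hc => hne ?_
    obtain ⟨h1, h2⟩ := cube_top_zero hc h3
    funext S; fin_cases S <;> assumption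

theorem Wt.tot_zero (hsup : ∀ B : Fin 4 → F, B ≠ 0 → ¬ IsCube B → D B = 0) :
    SS D (fun B => B 0 = 0 ∧ B 3 = 0) = D 0 := by
  rw [SS]
  refine Finset.sum_eq_single_of_mem 0 ?_ fun B hB hne => ?_
  · simp
  · obtain ⟨h0, h3⟩ := (Finset.mem_filter.1 hB).2
    refine hsup B hne fun hc => hne ?_
    obtain ⟨h1, h2⟩ := cube_top_zero hc h3
    funext S; fin_cases S <;> assumption

/-- No cube over a ratio that is not a cube. -/
theorem Wt.tot_off (hsup : ∀ B : Fin 4 → F, B ≠ 0 → ¬ IsCube B → D B = 0) {α β : F} (hα : α ≠ 0)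
    (hβ : β ≠ 0) (h : α / β ∉ cubes F) : SS D (fun B => B 0 = α ∧ B 3 = β) = 0 := by
  refine Finset.sum_eq_zero fun B hB => ?_
  obtain ⟨h0, h3⟩ := (Finset.mem_filter.1 hB).2
  refine hsup B (fun e => hβ (by rw [← h3, e]; rfl)) fun hc => h ?_
  obtain ⟨a, ha⟩ := cube_top_ne hc (h3 ▸ hβ)
  have e0 := congrFun ha 0
  rw [h0] at e0
  simp [opA, h3] at e0
  refine mem_cubes.2 ⟨a, fun ha0 => hα (by rw [e0, ha0]; simp), ?_⟩
  rw [e0, mul_div_cancel_right₀ _ hβ]

end Cfsg.Agent.G2Deg
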