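import Cfsg.Agent.G2Deg.Action
import Mathlib.Algebra.Polynomial.Roots

/-!
Invariant weights on binary cubics.
-/

set_option autoImplicit false
set_option maxRecDepth 100000

namespace Cfsg.Agent.G2Deg

open Polynomial

universe u

variable {F : Type u} [Field F] [Fintype F] [DecidableEq F]

/-- Reversal of the coefficients with scalars. -/
def opR (c : Fin 4 → F) (B : Fin 4 → F) : Fin 4 → F := fun S => c S * B S.rev

/-- A weight invariant under the parabolic subgroup. -/
structure Wt (D : (Fin 4 → F) → ℕ) : Prop where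
  hA : ∀ a B, D (opA a B) = D B
  hD : ∀ a B, D (opD a B) = D B
  hH : ∀ a b : F, a ≠ 0 → b ≠ 0 → ∀ B, D (opH a b B) = D B
  hR : ∃ c : Fin 4 → F, (∀ S, c S ≠ 0) ∧ ∀ B, D (opR c B) = D B

/-- The sum of a weight over a set of cubics. -/
noncomputable def SS (D : (Fin 4 → F) → ℕ) (P : (Fin 4 → F) → Prop) [DecidablePred P] : ℕ :=
  ∑ B ∈ Finset.univ.filter P, D B

theorem opA_opA (a b : F) (B : Fin 4 → F) : opA a (opA b B) = opA (a + b) B := by
  funext S; fin_cases S <;> simp [opA] <;> ring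

theorem opA_zero (B : Fin 4 → F) : opA 0 B = B := by
  funext S; fin_cases S <;> simp [opA]

theorem opA_inj (a : F) : Function.Injective (opA a : (Fin 4 → F) → Fin 4 → F) := fun B B' h => by
  have := congrArg (opA (-a)) h
  rwa [opA_opA, opA_opA, neg_add_cancel, opA_zero, opA_zero] at this

theorem opD_opD (a b : F) (B : Fin 4 → F) : opD a (opD b B) = opD (a + b) B := by
  funext S; fin_cases S <;> simp [opD] <;> ring

theorem opD_zero (B : Fin 4 → F) : opD 0 B = B := by
  funext S; fin_cases S <;> simp [opD]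

theorem opD_inj (a : F) : Function.Injective (opD a : (Fin 4 → F) → Fin 4 → F) := fun B B' h => by
  have := congrArg (opD (-a)) h
  rwa [opD_opD, opD_opD, neg_add_cancel, opD_zero, opD_zero] at this

theorem opH_inj {a b : F} (ha : a ≠ 0) (hb : b ≠ 0) :
    Function.Injective (opH a b : (Fin 4 → F) → Fin 4 → F) := fun B B' h => by
  funext S
  have h0 := congrFun h 0
  have h1 := congrFun h 1
  have h2 := congrFun h 2
  have h3 := congrFun h 3
  simp [opH, ha, hb] at h0 h1 h2 h3
  fin_cases S <;> assumption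

theorem opR_inj {c : Fin 4 → F} (hc : ∀ S, c S ≠ 0) :
    Function.Injective (opR c : (Fin 4 → F) → Fin 4 → F) := fun B B' h => by
  funext S
  have := congrFun h S.rev
  rw [opR, opR, Fin.rev_rev] at this
  exact mul_left_cancel₀ (hc _) this

/-- Sums of an invariant weight along an invariant map. -/
theorem SS_comp {D : (Fin 4 → F) → ℕ} {f : (Fin 4 → F) → Fin 4 → F} (hf : Function.Injective f)
    (hD : ∀ B, D (f B) = D B) (P : (Fin 4 → F) → Prop) [DecidablePred P] :
    SS D (fun B => P (f B)) = SS D P := by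
  let e : (Fin 4 → F) ≃ (Fin 4 → F) := Equiv.ofBijective f (Finite.injective_iff_bijective.1 hf)
  unfold SS
  refine Finset.sum_equiv e ?_ ?_
  · intro B; simp [e]
  · intro B _; exact (hD B).symm

theorem SS_congr {D : (Fin 4 → F) → ℕ} {P Q : (Fin 4 → F) → Prop} [DecidablePred P]
    [DecidablePred Q] (h : ∀ B, P B ↔ Q B) : SS D P = SS D Q :=
  Finset.sum_congr (Finset.filter_congr fun B _ => h B) fun _ _ => rfl

/-- The cubic in the affine coordinate. -/
def fev (B : Fin 4 → F) (a : F) : F := B 0 - a * B 1 + a ^ 2 * B 2 + a ^ 3 * B 3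

variable {D : (Fin 4 → F) → ℕ}

theorem Wt.SS_point (hW : Wt D) (a : F) :
    SS D (fun B => fev B a ≠ 0) = SS D (fun B => B 0 ≠ 0) := by
  rw [← SS_comp (opA_inj a) (hW.hA a) (fun B => B 0 ≠ 0)]
  rfl

theorem Wt.SS_infty (hW : Wt D) : SS D (fun B => B 3 ≠ 0) = SS D (fun B => B 0 ≠ 0) := by
  obtain ⟨c, hc, hD⟩ := hW.hR
  rw [← SS_comp (opR_inj hc) hD (fun B => B 0 ≠ 0)]
  refine SS_congr fun B => ?_
  show B 3 ≠ 0 ↔ c 0 * B (0 : Fin 4).rev ≠ 0
  rw [mul_ne_zero_iff]
  exact ⟨fun h => ⟨hc 0, h⟩, fun h => h.2⟩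

/-- A non-zero cubic has at most three roots on the line. -/
theorem roots_le {B : Fin 4 → F} (hB : B ≠ 0) :
    (Finset.univ.filter fun a => fev B a = 0).card + (if B 3 = 0 then 1 else 0) ≤ 3 := by
  classical
  set P : F[X] := C (B 3) * X ^ 3 + C (B 2) * X ^ 2 + C (-B 1) * X + C (B 0) with hP
  have hcoef : P.coeff 3 = B 3 ∧ P.coeff 2 = B 2 ∧ P.coeff 1 = -B 1 ∧ P.coeff 0 = B 0 := by
    rw [hP]
    simp [coeff_X, coeff_C, coeff_X_pow]
  have hP0 : P ≠ 0 := by
    intro h
    obtain ⟨h3, h2, h1, h0⟩ := hcoef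
    rw [h, coeff_zero] at h3 h2 h1 h0
    refine hB (funext fun S => ?_)
    fin_cases S
    exacts [h0.symm, (neg_eq_zero.1 h1.symm), h2.symm, h3.symm]
  have hsub : (Finset.univ.filter fun a => fev B a = 0) ⊆ P.roots.toFinset := by
    intro a ha
    rw [Finset.mem_filter] at ha
    rw [Multiset.mem_toFinset, mem_roots hP0, IsRoot, ← ha.2, hP, fev]
    simp only [eval_add, eval_mul, eval_C, eval_pow, eval_X]
    ring
  have hcard := (Finset.card_le_card hsub).trans ((Multiset.toFinset_card_le _).trans (card_roots' P))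
  split_ifs with h3
  · have : P.natDegree ≤ 2 := by
      rw [hP, h3, C_0, zero_mul, zero_add]
      compute_degree
    omega
  · have : P.natDegree ≤ 3 := by
      rw [hP]
      compute_degree
    omega

/-- The key inequality. -/
theorem Wt.nonroot_bound (hW : Wt D) :
    (Fintype.card F - 2) * SS D (fun B => B ≠ 0) ≤
      (Fintype.card F + 1) * SS D (fun B => B 0 ≠ 0) := by
  classical
  have h : (Fintype.card F + 1) * SS D (fun B => B 0 ≠ 0) =
      ∑ B, D B * ((Finset.univ.filter fun a => fev B a ≠ 0).card + (if B 3 ≠ 0 then 1 else 0)) := by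
    have h1 : ∑ a, SS D (fun B => fev B a ≠ 0) = Fintype.card F * SS D (fun B => B 0 ≠ 0) := by
      rw [Finset.sum_congr rfl fun a _ => hW.SS_point a, Finset.sum_const, Finset.card_univ,
        smul_eq_mul]
    rw [add_mul, one_mul, ← h1]
    nth_rewrite 1 [← hW.SS_infty]
    simp only [SS, Finset.sum_filter]
    rw [Finset.sum_comm, ← Finset.sum_add_distrib]
    refine Finset.sum_congr rfl fun B _ => ?_
    rw [mul_add, Finset.card_filter, Finset.mul_sum]
    congr 1
    · exact Finset.sum_congr rfl fun a _ => by split_ifs <;> simp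
    · split_ifs <;> simp
  rw [h, SS, Finset.mul_sum]
  refine (Finset.sum_le_sum fun B hB => ?_).trans
    (Finset.sum_le_sum_of_subset (Finset.filter_subset _ Finset.univ))
  rw [mul_comm]
  refine Nat.mul_le_mul_left _ ?_
  have hne : B ≠ 0 := (Finset.mem_filter.1 hB).2
  have h1 := roots_le hne
  have h2 := Finset.card_filter_add_card_filter_not (s := (Finset.univ : Finset F))
    (p := fun a => fev B a = 0)
  rw [Finset.card_univ] at h2
  split_ifs at h1 ⊢ with h3 h3' <;> simp_all <;> omega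

/-- A set of cubics of equal weight bounds the sum below. -/
theorem le_SS {P : (Fin 4 → F) → Prop} [DecidablePred P] (T : Finset (Fin 4 → F)) {d : ℕ}
    (hT : ∀ B ∈ T, P B ∧ d ≤ D B) : T.card * d ≤ SS D P := by
  rw [← smul_eq_mul, ← Finset.sum_const]
  exact (Finset.sum_le_sum fun B hB => (hT B hB).2).trans (Finset.sum_le_sum_of_subset fun B hB =>
    Finset.mem_filter.2 ⟨Finset.mem_univ _, (hT B hB).1⟩)

/-- The cubes of linear forms. -/
def IsCube (B : Fin 4 → F) : Prop :=
  B ≠ 0 ∧ ((B 3 = 0 ∧ B 2 = 0 ∧ B 1 = 0) ∨ ∃ a, opA a B 0 = 0 ∧ opA a B 1 = 0 ∧ opA a B 2 = 0)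

theorem Wt.const_vec (hW : Wt D) {b b' : F} (hb : b ≠ 0) (hb' : b' ≠ 0) :
    D ![b, 0, 0, 0] = D ![b', 0, 0, 0] := by
  have h := hW.hH (b' / b) ((b' / b) ^ 2) (div_ne_zero hb' hb) (pow_ne_zero _ (div_ne_zero hb' hb))
    ![b, 0, 0, 0]
  rw [← h]
  congr 1
  funext S
  fin_cases S <;> simp [opH] <;> field_simp

theorem Wt.cube_eq (hW : Wt D) {B : Fin 4 → F} (hB : IsCube B) : D B = D ![1, 0, 0, 0] := by
  obtain ⟨hne, ⟨h3, h2, h1⟩ | ⟨a, h0, h1, h2⟩⟩ := hB
  · have hb : B 0 ≠ 0 := fun h0 => hne (funext fun S => by fin_cases S <;> assumption)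
    rw [show B = ![B 0, 0, 0, 0] from funext fun S => by fin_cases S <;> first | rfl | assumption]
    exact hW.const_vec hb one_ne_zero
  · obtain ⟨c, hc, hR⟩ := hW.hR
    rw [← hW.hA a B, ← hR (opA a B)]
    have hb : opA a B 3 ≠ 0 := fun h3 => hne (opA_inj a (show opA a B = opA a 0 from funext fun S => by
      fin_cases S <;> simp [opA] at h0 h1 h2 h3 ⊢ <;> simp_all))
    rw [show opR c (opA a B) = ![c 0 * opA a B 3, 0, 0, 0] from funext fun S => by
      fin_cases S <;> simp [opR, h0, h1, h2] <;> rfl]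
    exact hW.const_vec (mul_ne_zero (hc 0) hb) one_ne_zero

/-- The cubes with a leading coefficient. -/
theorem cube_param {l a : F} (hl : l ≠ 0) : IsCube (opA a ![0, 0, 0, l]) := by
  refine ⟨fun h => hl ?_, Or.inr ⟨-a, ?_, ?_, ?_⟩⟩
  · have := congrFun h 3
    simpa [opA] using this
  all_goals rw [opA_opA, neg_add_cancel, opA_zero]; rfl

end Cfsg.Agent.G2Deg
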