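import Cfsg.Agent.Chev.All
import Cfsg.Agent.Chev.BNpair
import Cfsg.Agent.Chev.TopRoot
import Cfsg.Agent.Chev.Lift

/-!
Elements of `G₂(q)` in the maximal parabolic subgroup of the highest root.
-/

set_option autoImplicit false
set_option maxRecDepth 100000

namespace Cfsg.Agent.G2Deg

open Cfsg.Lie Cfsg.Agent.Chev
open scoped MatrixGroups

universe u

/-- The roots of the radical other than the highest one. -/
def rQ (S : Fin 4) : ℕ := ([6, 8, 9, 10] : List ℕ).getD S.1 0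

theorem rQ_lt : ∀ S : Fin 4, rQ S < chevG2.nroots := by decide +kernel

theorem chk_top : ∀ r : Fin 12, (r.1 = 4 ∨ r.1 = 6 ∨ r.1 = 7 ∨ r.1 = 8 ∨ r.1 = 9 ∨ r.1 = 10) →
    chevG2.commTerms 11 r = [] ∧ chevG2.neg 11 ≠ r := by
  decide +kernel

theorem chk_QQ : ∀ S S' : Fin 4, S ≠ S' → rQ S' ≠ chevG2.neg (rQ S) ∧ rQ S ≠ rQ S' ∧
    ∀ x ∈ chevG2.commTerms (rQ S) (rQ S'), x.1 = 11 := by
  decide +kernel

theorem chk_QQ_comm :
    chevG2.commTerms 10 6 = [(11, -1, 1, 1)] ∧ chevG2.commTerms 6 9 = [] ∧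
    chevG2.commTerms 6 8 = [] ∧ chevG2.commTerms 10 8 = [] ∧ chevG2.commTerms 10 9 = [] ∧
    chevG2.commTerms 9 8 = [(11, -3, 1, 1)] ∧ chevG2.neg 10 ≠ 6 ∧ chevG2.neg 6 ≠ 9 ∧
    chevG2.neg 6 ≠ 8 ∧ chevG2.neg 10 ≠ 8 ∧ chevG2.neg 10 ≠ 9 ∧ chevG2.neg 9 ≠ 8 := by
  decide +kernel

theorem chk_seven :
    chevG2.commTerms 7 6 = [(8, -1, 1, 1), (9, 1, 2, 1), (10, 1, 3, 1), (11, 1, 3, 2)] ∧
    chevG2.commTerms 7 8 = [(9, -2, 1, 1), (10, -3, 2, 1), (11, 3, 1, 2)] ∧
    chevG2.commTerms 7 9 = [(10, 3, 1, 1)] ∧ chevG2.commTerms 7 10 = [] := by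
  decide +kernel

theorem chk_four :
    chevG2.commTerms 4 10 = [(9, 1, 1, 1), (8, -1, 2, 1), (6, 1, 3, 1), (11, -1, 3, 2)] ∧
    chevG2.commTerms 4 9 = [(8, -2, 1, 1), (6, 3, 2, 1), (11, -3, 1, 2)] ∧
    chevG2.commTerms 4 8 = [(6, -3, 1, 1)] ∧ chevG2.commTerms 4 6 = [] := by
  decide +kernel

theorem chk_levi : ∀ S : Fin 4, (rQ S ≠ 4 ∧ rQ S ≠ chevG2.neg 4) ∧ (rQ S ≠ 7 ∧ rQ S ≠ chevG2.neg 7) := by
  decide +kernel

theorem chk_weyl : chevG2.reflectRoot 0 6 = 10 ∧ chevG2.reflectRoot 0 8 = 9 ∧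
    chevG2.reflectRoot 0 9 = 8 ∧ chevG2.reflectRoot 0 10 = 6 ∧ chevG2.reflectRoot 0 11 = 11 := by
  decide +kernel

theorem chk_cartan :
    (chevG2.cartan 0 6 = -3 ∧ chevG2.cartan 1 6 = 2) ∧ (chevG2.cartan 0 8 = -1 ∧ chevG2.cartan 1 8 = 1) ∧
    (chevG2.cartan 0 9 = 1 ∧ chevG2.cartan 1 9 = 0) ∧ (chevG2.cartan 0 10 = 3 ∧ chevG2.cartan 1 10 = -1) ∧
    (chevG2.cartan 0 11 = 0 ∧ chevG2.cartan 1 11 = 1) := by
  decide +kernel

variable (F : Type u) [Field F]

/-- The group. -/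
abbrev Gp := ↥(chevG2.group F)

variable {F}

/-- A root element. -/
noncomputable def xx (r : ℕ) (t : F) : Gp F :=
  ⟨xG facts_chevG2 r t, xG_mem_group facts_chevG2 r t⟩

/-- A root element of the radical. -/
noncomputable def xs (S : Fin 4) (u : F) : Gp F := xx (rQ S) u

/-- A root element of the highest root. -/
noncomputable def zz (v : F) : Gp F := xx 11 v

theorem xx_add (r : ℕ) (a b : F) : xx r (a + b) = xx r a * xx r b :=
  Subtype.ext (xG_mul facts_chevG2 r a b).symm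

theorem xx_zero (r : ℕ) : xx r (0 : F) = 1 := Subtype.ext (xG_zero facts_chevG2 r)

theorem xx_neg (r : ℕ) (a : F) : xx r (-a) = (xx r a)⁻¹ := by
  refine eq_inv_of_mul_eq_one_left ?_
  rw [← xx_add, neg_add_cancel, xx_zero]

theorem xs_add (S : Fin 4) (a b : F) : xs S (a + b) = xs S a * xs S b := xx_add _ a b

theorem xs_zero (S : Fin 4) : xs S (0 : F) = 1 := xx_zero _

theorem zz_add (a b : F) : zz (a + b) = zz a * zz b := xx_add 11 a b

theorem zz_zero : zz (0 : F) = 1 := xx_zero 11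

/-- A product of root elements. -/
noncomputable def word : List (ℕ × F) → Gp F
  | [] => 1
  | x :: l => xx x.1 x.2 * word l

theorem word_val : ∀ l : List (ℕ × F), (word l : GL chevG2.Idx F) = wordG facts_chevG2 l
  | [] => by simp [word, wordG]
  | x :: l => by
    have := word_val l
    simp [word, wordG, xx] at this ⊢
    rw [this]

/-- The commutator formula. -/
theorem xx_comm {r s : ℕ} (hr : r < chevG2.nroots) (hs : s < chevG2.nroots) (hsr : s ≠ r)
    (hsn : s ≠ chevG2.neg r) (t v : F) :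
    xx s v * xx r t = xx r t * xx s v * word (chevG2.commWord F r s t v) := by
  refine Subtype.ext ?_
  simp only [Subgroup.coe_mul, word_val]
  exact xG_comm facts_chevG2 hr hs hsr hsn t v

/-- Conjugation by a root element. -/
theorem xx_conj {r s : ℕ} (hr : r < chevG2.nroots) (hs : s < chevG2.nroots) (hsr : s ≠ r)
    (hsn : s ≠ chevG2.neg r) (a v : F) :
    xx r a * xx s v * (xx r a)⁻¹ = xx s v * word (chevG2.commWord F r s (-a) v) := by
  have h := xx_comm hr hs hsr hsn (-a) v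
  rw [← xx_neg, mul_assoc, h, ← mul_assoc, ← mul_assoc, ← xx_add, add_neg_cancel, xx_zero, one_mul]

theorem xx_commute {r s : ℕ} (hr : r < chevG2.nroots) (hs : s < chevG2.nroots)
    (h : s = r ∨ (s ≠ chevG2.neg r ∧ chevG2.commTerms r s = [])) (t v : F) :
    Commute (xx s v) (xx r t) :=
  Subtype.ext (xG_commute_of facts_chevG2 hr hs h t v).eq

theorem zz_commute_of (r : Fin 12) (hr : r.1 = 4 ∨ r.1 = 6 ∨ r.1 = 7 ∨ r.1 = 8 ∨ r.1 = 9 ∨ r.1 = 10)
    (t v : F) : Commute (zz v) (xx r.1 t) := by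
  obtain ⟨h1, h2⟩ := chk_top r hr
  exact (xx_commute (by decide) r.2 (Or.inr ⟨h2.symm, h1⟩) v t).symm

theorem zz_commute_xs (S : Fin 4) (u v : F) : Commute (zz v) (xs S u) := by
  fin_cases S
  · exact zz_commute_of 6 (by decide) u v
  · exact zz_commute_of 8 (by decide) u v
  · exact zz_commute_of 9 (by decide) u v
  · exact zz_commute_of 10 (by decide) u v

/-- The shift of the first coordinate by the highest root. -/
theorem xs_pair (u v : F) : xs 3 v * xs 0 u * (xs 3 v)⁻¹ = xs 0 u * zz (-(v * u)) := by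
  show xx 10 v * xx 6 u * (xx 10 v)⁻¹ = xx 6 u * _
  rw [xx_conj (by decide) (by decide) (by decide) chk_QQ_comm.2.2.2.2.2.2.1.symm]
  congr 1
  simp [ChevalleyDatum.commWord, chk_QQ_comm.1, word, zz]

theorem xs_commute_short (S : Fin 4) (hS : S = 1 ∨ S = 2) (u v : F) :
    Commute (xs S v) (xs 0 u) ∧ Commute (xs S v) (xs 3 u) := by
  obtain ⟨-, h2, h3, h4, h5, -, -, n2, n3, n4, n5, -⟩ := chk_QQ_comm
  rcases hS with rfl | rfl
  · exact ⟨xx_commute (by decide) (by decide) (Or.inr ⟨n3.symm, h3⟩) u v,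
      xx_commute (by decide) (by decide) (Or.inr ⟨n4.symm, h4⟩) u v⟩
  · exact ⟨xx_commute (by decide) (by decide) (Or.inr ⟨n2.symm, h2⟩) u v,
      xx_commute (by decide) (by decide) (Or.inr ⟨n5.symm, h5⟩) u v⟩

/-- In characteristic three the short root groups of the radical commute. -/
theorem xs_commute_three (h3 : (3 : F) = 0) (u v : F) : Commute (xs 2 u) (xs 1 v) := by
  obtain ⟨-, -, -, -, -, h6, -, -, -, -, -, n6⟩ := chk_QQ_comm
  have h := xx_comm (F := F) (r := 9) (s := 8) (by decide) (by decide) (by decide) n6.symm u v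
  have e : ((-3 : ℤ) : F) = 0 := by push_cast; rw [h3, neg_zero]
  simp [ChevalleyDatum.commWord, h6, word, e, h3, xx_zero] at h
  exact h.symm

theorem zz_eq_one_iff {v : F} : zz v = 1 ↔ v = 0 := by
  refine ⟨fun h => (xG_eq_one_iff facts_chevG2 (show 11 < chevG2.nroots by decide +kernel)).1
    (congrArg Subtype.val h), fun h => by rw [h, zz_zero]⟩

theorem zz_injective : Function.Injective (zz : F → Gp F) := fun a b h => by
  have h1 : zz (a - b) * zz b = 1 * zz b := by rw [← zz_add, sub_add_cancel, one_mul, h]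
  exact sub_eq_zero.1 (zz_eq_one_iff.1 (mul_right_cancel h1))

/-- An element of the torus. -/
noncomputable def hh (a b : Fˣ) : Gp F :=
  ⟨torusHom (fun i : Fin chevG2.rank => if i.1 = 0 then a else b),
    borel_le_group facts_chevG2 (Subgroup.mem_sup_right (torusHom_mem facts_chevG2 _))⟩

theorem hh_conj (a b : Fˣ) {r : ℕ} (hr : r < chevG2.nroots) (t : F) :
    hh a b * xx r t * (hh a b)⁻¹ =
      xx r ((a ^ chevG2.cartan 0 r * b ^ chevG2.cartan 1 r : Fˣ) * t) := by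
  refine Subtype.ext ?_
  show torusHom _ * xG facts_chevG2 r t * (torusHom _)⁻¹ = xG facts_chevG2 r _
  rw [torusHom_conj facts_chevG2 _ hr, mul_inv_cancel_right]
  congr 2
  rw [chiU]
  congr 1
  exact Fin.prod_univ_two (fun j : Fin 2 => (if j.1 = 0 then a else b) ^ chevG2.cartan j r)

/-- The reflection in the short fundamental root. -/
theorem exists_weyl : ∃ g : Gp F, (∃ c : F, c ≠ 0 ∧ ∀ v, g * zz v * g⁻¹ = zz (c * v)) ∧
    ∀ S : Fin 4, ∃ c : F, c ≠ 0 ∧ ∀ v, g * xs S v * g⁻¹ = xs S.rev (c * v) := by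
  have h0 : 0 < chevG2.rank := by decide +kernel
  refine ⟨⟨nWord facts_chevG2 [⟨0, h0⟩],
    monomial_le_group facts_chevG2 (nWord_mem facts_chevG2 _)⟩, ?_⟩
  have key : ∀ r r' : ℕ, r < chevG2.nroots → chevG2.reflectRoot 0 r = r' → ∃ c : F, c ≠ 0 ∧ ∀ v,
      (⟨nWord facts_chevG2 [⟨0, h0⟩],
        monomial_le_group facts_chevG2 (nWord_mem facts_chevG2 _)⟩ : Gp F) * xx r v *
        (⟨nWord facts_chevG2 [⟨0, h0⟩],
        monomial_le_group facts_chevG2 (nWord_mem facts_chevG2 _)⟩ : Gp F)⁻¹ = xx r' (c * v) := by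
    intro r r' hr hr'
    obtain ⟨c, hc, h⟩ := isMon_nWord facts_chevG2 [⟨0, h0⟩] (F := F) ⟨r, hr⟩
    refine ⟨c, hc, fun v => Subtype.ext ?_⟩
    show nWord facts_chevG2 _ * xG facts_chevG2 r v * (nWord facts_chevG2 _)⁻¹ =
      xG facts_chevG2 r' (c * v)
    rw [h v, mul_inv_cancel_right, pWord_cons, Equiv.Perm.mul_apply, wPerm_val, ← hr']
    rfl
  obtain ⟨w6, w8, w9, w10, w11⟩ := chk_weyl
  refine ⟨key 11 11 (by decide) w11, fun S => ?_⟩
  fin_cases S
  · exact key 6 10 (by decide) w6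
  · exact key 8 9 (by decide) w8
  · exact key 9 8 (by decide) w9
  · exact key 10 6 (by decide) w10

end Cfsg.Agent.G2Deg
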