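import Cfsg.Agent.G2Deg.Away
import Mathlib.FieldTheory.Perfect

/-!
Weights on cubics in characteristic three, by their middle coefficients.
-/

set_option autoImplicit false
set_option maxRecDepth 100000

namespace Cfsg.Agent.G2Deg

universe u

variable {F : Type u} [Field F] [Fintype F] [DecidableEq F] {D : (Fin 4 → F) → ℕ}

/-- The weight above given middle coefficients. -/
noncomputable def mid (D : (Fin 4 → F) → ℕ) (b₁ b₂ : F) : ℕ := SS D fun B => B 1 = b₁ ∧ B 2 = b₂

theorem two_ne (h3 : (3 : F) = 0) : (2 : F) ≠ 0 := fun h2 =>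
  one_ne_zero (α := F) (by linear_combination h3 - h2)

theorem cube_surj (h3 : (3 : F) = 0) (y : F) : ∃ x : F, x ^ 3 = y := by
  haveI : Fact (Nat.Prime 3) := ⟨Nat.prime_three⟩
  haveI : CharP F 3 := by
    obtain ⟨p, hp⟩ := CharP.exists F
    have : p ∣ 3 := (CharP.cast_eq_zero_iff F p 3).1 (by exact_mod_cast h3)
    rcases (Nat.dvd_prime Nat.prime_three).1 this with rfl | rfl
    · haveI := hp
      exact absurd rfl (CharP.char_ne_one F 1)
    · exact hp
  obtain ⟨x, hx⟩ := surjective_frobenius F 3 y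
  exact ⟨x, by rw [← hx, frobenius_def]⟩

theorem Wt.mid_A (hW : Wt D) (h3 : (3 : F) = 0) (a b₁ b₂ : F) :
    mid D (b₁ - 2 * a * b₂) b₂ = mid D b₁ b₂ := by
  rw [mid, mid, ← SS_comp (opA_inj a) (hW.hA a) (fun B => B 1 = b₁ - 2 * a * b₂ ∧ B 2 = b₂)]
  refine SS_congr fun B => ?_
  simp only [opA, Matrix.cons_val_one, Matrix.cons_val, Matrix.cons_val_zero]
  constructor
  · rintro ⟨h1, h2⟩
    have e2 : B 2 = b₂ := by linear_combination h2 - a * B 3 * h3
    exact ⟨by linear_combination h1 + 2 * a * e2 + a ^ 2 * B 3 * h3, e2⟩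
  · rintro ⟨h1, h2⟩
    exact ⟨by linear_combination h1 - 2 * a * h2 - a ^ 2 * B 3 * h3,
      by linear_combination h2 + a * B 3 * h3⟩

theorem Wt.mid_D (hW : Wt D) (h3 : (3 : F) = 0) (a b₁ b₂ : F) :
    mid D b₁ (b₂ - 2 * a * b₁) = mid D b₁ b₂ := by
  rw [mid, mid, ← SS_comp (opD_inj a) (hW.hD a) (fun B => B 1 = b₁ ∧ B 2 = b₂ - 2 * a * b₁)]
  refine SS_congr fun B => ?_
  simp only [opD, Matrix.cons_val_one, Matrix.cons_val, Matrix.cons_val_zero]
  constructor
  · rintro ⟨h1, h2⟩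
    have e1 : B 1 = b₁ := by linear_combination h1 + a * B 0 * h3
    exact ⟨e1, by linear_combination h2 + 2 * a * e1 - a ^ 2 * B 0 * h3⟩
  · rintro ⟨h1, h2⟩
    exact ⟨by linear_combination h1 - a * B 0 * h3,
      by linear_combination h2 - 2 * a * h1 + a ^ 2 * B 0 * h3⟩

theorem Wt.mid_scale (hW : Wt D) {b : F} (hb : b ≠ 0) : mid D b 0 = mid D 1 0 := by
  rw [mid, mid, ← SS_comp (opH_inj (inv_ne_zero hb) one_ne_zero) (hW.hH _ _ (inv_ne_zero hb) one_ne_zero)
    (fun B => B 1 = b ∧ B 2 = 0)]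
  refine SS_congr fun B => ?_
  simp [opH, hb]

theorem Wt.mid_eq (hW : Wt D) (h3 : (3 : F) = 0) {b₁ b₂ : F} (h : b₁ ≠ 0 ∨ b₂ ≠ 0) :
    mid D b₁ b₂ = mid D 1 0 := by
  have htwo := two_ne h3
  have key : ∀ b₁ b₂ : F, b₁ ≠ 0 → mid D b₁ b₂ = mid D 1 0 := fun b₁ b₂ h1 => by
    rw [← hW.mid_D h3 (b₂ / (2 * b₁)) b₁ b₂, show b₂ - 2 * (b₂ / (2 * b₁)) * b₁ = 0 by field_simp; ring]
    exact hW.mid_scale h1
  rcases eq_or_ne b₁ 0 with rfl | h1
  · have h2 : b₂ ≠ 0 := h.resolve_left (not_not.2 rfl)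
    rw [← hW.mid_A h3 (-(1 / (2 * b₂))) 0 b₂,
      show (0 : F) - 2 * -(1 / (2 * b₂)) * b₂ = 1 by field_simp; ring]
    exact key 1 b₂ one_ne_zero
  · exact key b₁ b₂ h1

theorem SS_split (P : (Fin 4 → F) → Prop) [DecidablePred P] :
    SS D P = ∑ p : F × F, SS D fun B => P B ∧ B 1 = p.1 ∧ B 2 = p.2 := by
  unfold SS
  rw [← Finset.sum_fiberwise (Finset.univ.filter P) (fun B : Fin 4 → F => (B 1, B 2))]
  refine Finset.sum_congr rfl fun p _ => Finset.sum_congr ?_ fun _ _ => rfl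
  rw [Finset.filter_filter]
  exact Finset.filter_congr fun B _ => by simp [Prod.ext_iff]

theorem Wt.sum_quad (hW : Wt D) (h3 : (3 : F) = 0) :
    SS D (fun B => B 2 ≠ 0) = Fintype.card F * ((Fintype.card F - 1) * mid D 1 0) := by
  rw [SS_split, Fintype.sum_prod_type]
  have : ∀ b₁ : F, ∑ b₂, SS D (fun B => B 2 ≠ 0 ∧ B 1 = b₁ ∧ B 2 = b₂) =
      (Fintype.card F - 1) * mid D 1 0 := fun b₁ => by
    rw [← Finset.add_sum_erase _ _ (Finset.mem_univ (0 : F)),
      show SS D (fun B => B 2 ≠ 0 ∧ B 1 = b₁ ∧ B 2 = 0) = 0 from Finset.sum_eq_zero fun B hB => by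
        obtain ⟨h1, -, h2⟩ := (Finset.mem_filter.1 hB).2
        exact absurd h2 h1,
      zero_add, Finset.sum_congr rfl fun b₂ hb₂ => ?_, Finset.sum_const,
      Finset.card_erase_of_mem (Finset.mem_univ _), Finset.card_univ, smul_eq_mul]
    rw [← hW.mid_eq h3 (Or.inr (Finset.ne_of_mem_erase hb₂)), mid]
    exact SS_congr fun B => ⟨fun h => h.2, fun h => ⟨h.2 ▸ Finset.ne_of_mem_erase hb₂, h⟩⟩
  rw [Finset.sum_congr rfl fun b₁ _ => this b₁, Finset.sum_const, Finset.card_univ, smul_eq_mul]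

theorem cube_of_middle (h3 : (3 : F) = 0) {B : Fin 4 → F} (hB : B ≠ 0) (h1 : B 1 = 0) (h2 : B 2 = 0) :
    IsCube B := by
  refine ⟨hB, ?_⟩
  rcases eq_or_ne (B 3) 0 with h | h
  · exact Or.inl ⟨h, h2, h1⟩
  · obtain ⟨a, ha⟩ := cube_surj h3 (-B 0 / B 3)
    refine Or.inr ⟨a, ?_, ?_, ?_⟩
    · simp [opA, h1, h2, ha]
      field_simp
      ring
    · simp [opA, h1, h2, h3]
    · simp [opA, h2, h3]

/-- The cubics with vanishing middle coefficients. -/
theorem Wt.sum_middle (hW : Wt D) (h3 : (3 : F) = 0) :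
    SS D (fun B => B ≠ 0 ∧ B 1 = 0 ∧ B 2 = 0) =
      (Fintype.card F ^ 2 - 1) * D ![1, 0, 0, 0] := by
  rw [SS, Finset.sum_congr rfl fun B hB => hW.cube_eq (cube_of_middle h3 (Finset.mem_filter.1 hB).2.1
    (Finset.mem_filter.1 hB).2.2.1 (Finset.mem_filter.1 hB).2.2.2), Finset.sum_const, smul_eq_mul]
  congr 1
  have e : (Finset.univ.filter fun B : Fin 4 → F => B ≠ 0 ∧ B 1 = 0 ∧ B 2 = 0) =
      (Finset.univ.erase ((0, 0) : F × F)).image fun p => ![p.1, 0, 0, p.2] := by
    ext B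
    simp only [Finset.mem_filter, Finset.mem_univ, true_and, Finset.mem_image, Finset.mem_erase,
      and_true]
    constructor
    · rintro ⟨hB, h1, h2⟩
      refine ⟨(B 0, B 3), fun h => hB ?_, ?_⟩
      · obtain ⟨h0, h3'⟩ := Prod.ext_iff.1 h
        funext S; fin_cases S <;> assumption
      · funext S; fin_cases S <;> first | rfl | exact h1.symm | exact h2.symm
    · rintro ⟨p, hp, rfl⟩
      refine ⟨fun h => hp (Prod.ext (congrFun h 0) (congrFun h 3)), rfl, rfl⟩
  rw [e, Finset.card_image_of_injective _ fun p r h => Prod.ext (congrFun h 0) (congrFun h 3),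
    Finset.card_erase_of_mem (Finset.mem_univ _), Finset.card_univ, Fintype.card_prod, sq]

theorem Wt.sum_ne (hW : Wt D) (h3 : (3 : F) = 0) :
    SS D (fun B => B ≠ 0) =
      (Fintype.card F ^ 2 - 1) * mid D 1 0 + (Fintype.card F ^ 2 - 1) * D ![1, 0, 0, 0] := by
  rw [SS_split, ← Finset.add_sum_erase _ _ (Finset.mem_univ ((0, 0) : F × F)),
    hW.sum_middle h3, add_comm]
  congr 1
  rw [Finset.sum_congr rfl (g := fun _ => mid D 1 0) (fun p hp => ?_), Finset.sum_const,
    Finset.card_erase_of_mem (Finset.mem_univ _), Finset.card_univ, Fintype.card_prod, smul_eq_mul,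
    ← sq]
  have hp' : p.1 ≠ 0 ∨ p.2 ≠ 0 := by
    by_contra hcon
    push Not at hcon
    exact Finset.ne_of_mem_erase hp (Prod.ext hcon.1 hcon.2)
  rw [← hW.mid_eq h3 hp', mid]
  refine SS_congr fun B => ⟨fun h => h.2, fun h => ⟨fun h0 => ?_, h⟩⟩
  rcases hp' with hh | hh
  · exact hh (by rw [← h.1, h0]; rfl)
  · exact hh (by rw [← h.2, h0]; rfl)

/-- A cubic with distinct roots forces a large fibre. -/
theorem Wt.mid_big (hW : Wt D) (h3 : (3 : F) = 0) {B : Fin 4 → F} (h1 : B 1 = 1) (h2 : B 2 = 0)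
    (hb : B 3 ≠ 0) : (Fintype.card F - 1) * Fintype.card F * D B ≤ 6 * mid D 1 0 := by
  classical
  set P := (Finset.univ.filter fun x : F => x ≠ 0) ×ˢ (Finset.univ : Finset F) with hP
  have hcard : P.card = (Fintype.card F - 1) * Fintype.card F := by
    rw [hP, Finset.card_product, Finset.filter_ne', Finset.card_erase_of_mem (Finset.mem_univ _),
      Finset.card_univ]
  have hmemP : ∀ r ∈ P, r.1 ≠ 0 := fun r hr => by
    simp only [hP, Finset.mem_product, Finset.mem_filter, Finset.mem_univ, true_and, and_true] at hr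
    exact hr
  set g : F × F → Fin 4 → F := fun r => opA r.2 (opH r.1 r.1 B) with hg
  have hT : (P.image g).card * D B ≤ mid D 1 0 := le_SS _ fun C hC => by
    obtain ⟨r, hr, rfl⟩ := Finset.mem_image.1 hC
    have ha := hmemP r hr
    refine ⟨⟨?_, ?_⟩, by rw [hg]; simp only []; rw [hW.hA, hW.hH _ _ ha ha]⟩
    · simp [hg, opA, opH, h1, h2, h3, ha]
    · simp [hg, opA, opH, h2, h3]
  have hfib : P.card ≤ 6 * (P.image g).card :=
    Finset.card_le_mul_card_image _ 6 fun C hC => by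
      obtain ⟨p, hp, rfl⟩ := Finset.mem_image.1 hC
      have hp1 := hmemP p hp
      set S2 := Finset.univ.filter fun x : F => x ^ 2 = p.1 ^ 2 with hS2
      set tgt : F → Finset F := fun a => Finset.univ.filter fun s : F =>
        fev (![a⁻¹ * B 0 - (p.1⁻¹ * B 0 - p.2 + p.2 ^ 3 * (p.1 ^ 2 * B 3)), 1, 0,
          p.1 ^ 2 * B 3] : Fin 4 → F) s = 0 with htgt
      refine le_trans (Finset.card_le_card (t := S2.biUnion fun a => (tgt a).image fun s => (a, s))
        fun r hr => ?_) ?_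
      · rw [Finset.mem_filter] at hr
        obtain ⟨hrP, he⟩ := hr
        have hr1 := hmemP r hrP
        have e0 := congrFun he 0
        have e3 := congrFun he 3
        simp [hg, opA, opH, h1, h2, hr1, hp1] at e0 e3
        have e3' : r.1 ^ 2 = p.1 ^ 2 := by
          have hr' : r.1 ^ 3 / r.1 = r.1 ^ 2 := by field_simp
          have hp' : p.1 ^ 3 / p.1 = p.1 ^ 2 := by field_simp
          rw [hr', hp'] at e3
          exact e3.resolve_right hb
        have hr' : r.1 ^ 3 / r.1 = r.1 ^ 2 := by field_simp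
        have hp' : p.1 ^ 3 / p.1 = p.1 ^ 2 := by field_simp
        rw [hr', hp', e3'] at e0
        refine Finset.mem_biUnion.2 ⟨r.1, Finset.mem_filter.2 ⟨Finset.mem_univ _, e3'⟩,
          Finset.mem_image.2 ⟨r.2, Finset.mem_filter.2 ⟨Finset.mem_univ _, ?_⟩, rfl⟩⟩
        have hr2 : r.1 ^ 2 / r.1 ^ 3 = r.1⁻¹ := by field_simp
        have hp2 : p.1 ^ 2 / p.1 ^ 3 = p.1⁻¹ := by field_simp
        rw [hp2] at e0
        rw [← e3', hr2, e3'] at e0
        simp [fev]
        linear_combination e0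
      · refine (Finset.card_biUnion_le).trans ((Finset.sum_le_card_nsmul _ _ 3 fun a _ => ?_).trans ?_)
        · refine Finset.card_image_le.trans ?_
          have hne : (![a⁻¹ * B 0 - (p.1⁻¹ * B 0 - p.2 + p.2 ^ 3 * (p.1 ^ 2 * B 3)), 1, 0,
              p.1 ^ 2 * B 3] : Fin 4 → F) ≠ 0 := fun h => one_ne_zero (congrFun h 1 : (1 : F) = 0)
          have := roots_le hne
          simp only [htgt]
          omega
        · rw [smul_eq_mul]
          have : S2.card ≤ 2 := by
            refine le_trans (Finset.card_le_card (t := ({p.1, -p.1} : Finset F)) fun x hx => ?_)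
              Finset.card_le_two
            rcases sq_eq_sq_iff_eq_or_eq_neg.1 (Finset.mem_filter.1 hx).2 with h | h <;> simp [h]
          omega
  calc (Fintype.card F - 1) * Fintype.card F * D B = P.card * D B := by rw [hcard]
    _ ≤ 6 * (P.image g).card * D B := Nat.mul_le_mul_right _ hfib
    _ = 6 * ((P.image g).card * D B) := mul_assoc _ _ _
    _ ≤ _ := Nat.mul_le_mul_left _ hT

/-- No cubic with distinct roots occurs. -/
def NoBig (D : (Fin 4 → F) → ℕ) : Prop :=
  ∀ B : Fin 4 → F, B 1 = 1 → B 2 = 0 → B 3 ≠ 0 → D B = 0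

theorem Wt.lin_eq (hW : Wt D) {b : F} (hb : b ≠ 0) (c : F) :
    D ![c, b, 0, 0] = D ![0, 1, 0, 0] := by
  rw [← hW.hA (c / b) ![c, b, 0, 0],
    show opA (c / b) ![c, b, 0, 0] = ![0, b, 0, 0] from funext fun S => by
      fin_cases S <;> simp [opA, hb],
    ← hW.hH b⁻¹ 1 (inv_ne_zero hb) one_ne_zero ![0, 1, 0, 0]]
  congr 1
  funext S; fin_cases S <;> simp [opH, hb]

theorem Wt.mid_small (hW : Wt D) (hno : NoBig D) :
    mid D 1 0 = Fintype.card F * D ![0, 1, 0, 0] := by
  rw [mid, SS, ← Finset.card_univ, ← smul_eq_mul, ← Finset.sum_const]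
  refine Eq.trans ?_ (Finset.sum_congr rfl fun c _ => hW.lin_eq one_ne_zero c)
  rw [← Finset.sum_image (g := fun c : F => (![c, 1, 0, 0] : Fin 4 → F)) (f := D)
    fun a _ b _ h => congrFun h 0]
  refine (Finset.sum_subset (fun B hB => ?_) fun B hB hn => ?_).symm
  · obtain ⟨c, -, rfl⟩ := Finset.mem_image.1 hB
    exact Finset.mem_filter.2 ⟨Finset.mem_univ _, rfl, rfl⟩
  · obtain ⟨h1, h2⟩ := (Finset.mem_filter.1 hB).2
    refine hno B h1 h2 fun h3 => hn (Finset.mem_image.2 ⟨B 0, Finset.mem_univ _, ?_⟩)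
    funext S; fin_cases S <;> first | rfl | exact h1.symm | exact h2.symm | exact h3.symm

/-- The non-vanishing leading coefficient, when no cubic has distinct roots. -/
theorem Wt.sum_lead (hW : Wt D) (h3 : (3 : F) = 0) (hno : NoBig D) :
    SS D (fun B => B 3 ≠ 0) =
      Fintype.card F * ((Fintype.card F - 1) * D ![1, 0, 0, 0]) +
      Fintype.card F * ((Fintype.card F - 1) * (Fintype.card F - 1) * D ![0, 1, 0, 0]) := by
  classical
  obtain ⟨c, hc, hR⟩ := hW.hR
  have htwo := two_ne h3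
  have hb1 : ∀ B : Fin 4 → F, B 1 ≠ 0 → B 2 = 0 → B 3 ≠ 0 → D B = 0 := fun B h1 h2 hB3 => by
    rw [← hW.hH (B 1) 1 h1 one_ne_zero B]
    refine hno _ ?_ ?_ ?_
    · simp [opH, h1]
    · simp [opH, h2]
    · simp [opH, h1, hB3]
  have hmir : ∀ B : Fin 4 → F, B 2 ≠ 0 → B 1 = 0 → B 0 ≠ 0 → D B = 0 := fun B h2 h1 hB0 => by
    rw [← hR B]
    exact hb1 _ (mul_ne_zero (hc 1) h2) (show c 2 * B (2 : Fin 4).rev = 0 by
      rw [show B (2 : Fin 4).rev = 0 from h1, mul_zero]) (mul_ne_zero (hc 3) hB0)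
  have hquad : ∀ b e : F, b ≠ 0 → D ![0, 0, b, e] = D ![0, 1, 0, 0] := fun b e hb => by
    rw [← hR ![0, 0, b, e], ← hW.lin_eq (mul_ne_zero (hc 1) hb) (c 0 * e)]
    congr 1
    funext S; fin_cases S <;> simp [opR] <;> rfl
  set nz := Finset.univ.filter fun x : F => x ≠ 0 with hnz
  have hnzc : nz.card = Fintype.card F - 1 := by
    rw [hnz, Finset.filter_ne', Finset.card_erase_of_mem (Finset.mem_univ _), Finset.card_univ]
  set T1 := ((Finset.univ : Finset F) ×ˢ nz).image fun p : F × F => (![p.1, 0, 0, p.2] : Fin 4 → F)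
  set T2 := ((Finset.univ : Finset F) ×ˢ (nz ×ˢ nz)).image
    fun p : F × F × F => opA p.1 ![0, 0, p.2.1, p.2.2]
  have hd : Disjoint T1 T2 := Finset.disjoint_left.2 fun B hB hB' => by
    obtain ⟨p, -, rfl⟩ := Finset.mem_image.1 hB
    obtain ⟨r, hr, he⟩ := Finset.mem_image.1 hB'
    have h2 := congrFun he 2
    simp [opA, h3] at h2
    simp only [Finset.mem_product, hnz, Finset.mem_filter, Finset.mem_univ, true_and] at hr
    exact hr.1 h2
  have hs : SS D (fun B => B 3 ≠ 0) = ∑ B ∈ T1 ∪ T2, D B := by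
    refine (Finset.sum_subset (fun B hB => ?_) fun B hB hn => ?_).symm
    · rcases Finset.mem_union.1 hB with h | h <;> obtain ⟨p, hp, rfl⟩ := Finset.mem_image.1 h <;>
        simp only [Finset.mem_product, hnz, Finset.mem_filter, Finset.mem_univ, true_and] at hp <;>
        refine Finset.mem_filter.2 ⟨Finset.mem_univ _, ?_⟩
      · simpa using hp
      · simpa [opA] using hp.2
    · have hB3 : B 3 ≠ 0 := (Finset.mem_filter.1 hB).2
      by_cases h2 : B 2 = 0
      · by_cases h1 : B 1 = 0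
        · refine absurd (Finset.mem_union_left _ (Finset.mem_image.2 ⟨(B 0, B 3), by simp [hnz, hB3], ?_⟩)) hn
          funext S; fin_cases S <;> first | rfl | exact h1.symm | exact h2.symm
        · exact hb1 B h1 h2 hB3
      · set s := B 1 / (2 * B 2) with hsdef
        have h1' : opA s B 1 = 0 := by simp [opA, h3, hsdef]; field_simp; ring
        have h2' : opA s B 2 = B 2 := by simp [opA, h3]
        rw [← hW.hA s B]
        refine hmir _ (h2' ▸ h2) h1' fun h0 => ?_
        refine absurd (Finset.mem_union_right _ (Finset.mem_image.2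
          ⟨(-s, B 2, B 3), by simp [hnz, hB3, h2], ?_⟩)) hn
        show opA (-s) ![0, 0, B 2, B 3] = B
        rw [show ![0, 0, B 2, B 3] = opA s B from funext fun S => by
          fin_cases S
          exacts [h0.symm, h1'.symm, h2'.symm, rfl], opA_opA, neg_add_cancel, opA_zero]
  have i1 : Set.InjOn (fun p : F × F => (![p.1, 0, 0, p.2] : Fin 4 → F))
      ↑((Finset.univ : Finset F) ×ˢ nz) := fun a _ b _ h => Prod.ext (congrFun h 0) (congrFun h 3)
  have i2 : Set.InjOn (fun p : F × F × F => opA p.1 ![0, 0, p.2.1, p.2.2])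
      ↑((Finset.univ : Finset F) ×ˢ (nz ×ˢ nz)) := fun a ha b _ h => by
    simp only [Finset.coe_product, Set.mem_prod, hnz, Finset.coe_filter, Finset.mem_univ, true_and,
      Set.mem_setOf_eq] at ha
    have e1 := congrFun h 1
    have e2 := congrFun h 2
    have e3 := congrFun h 3
    simp [opA, h3] at e1 e2 e3
    rw [← e2] at e1
    refine Prod.ext ?_ (Prod.ext e2 e3)
    exact mul_left_cancel₀ htwo (mul_right_cancel₀ ha.2.1 e1)
  rw [hs, Finset.sum_union hd, Finset.sum_image i1, Finset.sum_image i2]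
  congr 1
  · rw [Finset.sum_congr rfl fun p hp => hW.cube_eq (cube_of_middle h3 (B := ![p.1, 0, 0, p.2])
      (fun h => by simp [hnz] at hp; exact hp (congrFun h 3)) rfl rfl),
      Finset.sum_const, Finset.card_product, Finset.card_univ, hnzc, smul_eq_mul, mul_assoc]
  · rw [Finset.sum_congr rfl fun p hp => (hW.hA _ _).trans (hquad p.2.1 p.2.2 (by
      simp [hnz] at hp; exact hp.1)), Finset.sum_const, Finset.card_product, Finset.card_product,
      Finset.card_univ, hnzc, smul_eq_mul, mul_assoc]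

end Cfsg.Agent.G2Deg
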