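import Cfsg.Agent.G2Deg.Sums
import Cfsg.Agent.G2Singer.LongRoots
import Cfsg.Agent.Char.Splitting

/-!
Restriction to the special linear group of the long roots.
-/

set_option autoImplicit false
set_option maxRecDepth 100000

namespace Cfsg.Agent.G2Deg

open Cfsg.Lie Cfsg.Agent.Chev Matrix
open Cfsg.Agent.E6Deg (lamH lamH_mul pdim proj proj_sq proj_orth proj_mul_rho proj_conj trace_proj sum_proj proj_eq_zero)

universe u

variable {F : Type u} [Field F]

local notation "S3" => SpecialLinearGroup (Fin 3) F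

/-- The group of the long roots. -/
noncomputable def psiL : S3 →* Gp F :=
  (G2Singer.psi (E := F)).codRestrict (chevG2.group F) G2Singer.psi_mem_group

theorem psiL_tv (i j : Fin 3) (h : i ≠ j) (r : ℕ) (t : F)
    (hr : G2Singer.psi (SpecialLinearGroup.transvection h t) = xG facts_chevG2 r t) :
    psiL (SpecialLinearGroup.transvection h t) = xx r t := Subtype.ext hr

theorem psiL_six (t : F) :
    psiL (SpecialLinearGroup.transvection (show (1 : Fin 3) ≠ 0 by decide) t) = xs 0 t :=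
  psiL_tv _ _ _ 6 t (G2Singer.psi_tv6 _ t)

theorem psiL_ten (t : F) :
    psiL (SpecialLinearGroup.transvection (show (0 : Fin 3) ≠ 2 by decide) t) = xs 3 t :=
  psiL_tv _ _ _ 10 t (G2Singer.psi_tv10 _ t)

theorem psiL_top (t : F) :
    psiL (SpecialLinearGroup.transvection (show (1 : Fin 3) ≠ 2 by decide) t) = zz t :=
  psiL_tv _ _ _ 11 t (G2Singer.psi_tv11 _ t)

theorem psiL_diag (a b : Fˣ) :
    psiL (G2Singer.diagElt fun i : Fin chevG2.rank => if i.1 = 0 then a else b) = hh a b :=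
  Subtype.ext (G2Singer.psi_diagElt _)

/-- Membership in the group of the long roots. -/
def InL (g : Gp F) : Prop := ∃ X : S3, psiL X = g

theorem inL_xs_zero (u : F) : InL (xs 0 u : Gp F) := ⟨_, psiL_six u⟩

theorem inL_xs_three (u : F) : InL (xs 3 u : Gp F) := ⟨_, psiL_ten u⟩

theorem inL_zz (u : F) : InL (zz u : Gp F) := ⟨_, psiL_top u⟩

theorem inL_hh (a b : Fˣ) : InL (hh a b : Gp F) := ⟨_, psiL_diag a b⟩

theorem inL_mul {g h : Gp F} (hg : InL g) (hh : InL h) : InL (g * h) := by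
  obtain ⟨X, rfl⟩ := hg
  obtain ⟨Y, rfl⟩ := hh
  exact ⟨X * Y, map_mul _ _ _⟩

/-- The matrix moving the highest root to the first long root. -/
noncomputable def wA : S3 := ⟨!![0, 0, 1; 0, -1, 0; 1, 0, 0], by rw [det_fin_three]; simp⟩

/-- The matrix moving the highest root to the second long root. -/
noncomputable def wB : S3 := ⟨!![0, 1, 0; 1, 0, 0; 0, 0, -1], by rw [det_fin_three]; simp⟩

theorem wA_val : ((wA : S3) : Matrix (Fin 3) (Fin 3) F) = !![0, 0, 1; 0, -1, 0; 1, 0, 0] := rfl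

theorem wB_val : ((wB : S3) : Matrix (Fin 3) (Fin 3) F) = !![0, 1, 0; 1, 0, 0; 0, 0, -1] := rfl

theorem wA_mul (h : (1 : Fin 3) ≠ 2) (h' : (1 : Fin 3) ≠ 0) (u : F) :
    (wA : S3) * Matrix.SpecialLinearGroup.transvection h u =
      Matrix.SpecialLinearGroup.transvection h' (-u) * wA := by
  apply Matrix.SpecialLinearGroup.ext
  intro i j
  rw [Matrix.SpecialLinearGroup.coe_mul, Matrix.SpecialLinearGroup.coe_mul, wA_val]
  fin_cases i <;> fin_cases j <;>
    simp [Matrix.SpecialLinearGroup.transvection_coe, Matrix.mul_apply, Fin.sum_univ_three,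
      Matrix.single, Matrix.one_apply]

theorem wB_mul (h : (1 : Fin 3) ≠ 2) (h' : (0 : Fin 3) ≠ 2) (u : F) :
    (wB : S3) * Matrix.SpecialLinearGroup.transvection h u =
      Matrix.SpecialLinearGroup.transvection h' (-u) * wB := by
  apply Matrix.SpecialLinearGroup.ext
  intro i j
  rw [Matrix.SpecialLinearGroup.coe_mul, Matrix.SpecialLinearGroup.coe_mul, wB_val]
  fin_cases i <;> fin_cases j <;>
    simp [Matrix.SpecialLinearGroup.transvection_coe, Matrix.mul_apply, Fin.sum_univ_three,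
      Matrix.single, Matrix.one_apply]

/-- Elements moving the highest root to the two long roots of the radical. -/
theorem exists_long_weyl : (∃ X : S3, ∀ u, psiL X * zz u * (psiL X)⁻¹ = xs 0 (-u)) ∧
    ∃ X : S3, ∀ u, psiL X * zz u * (psiL X)⁻¹ = xs 3 (-u) := by
  refine ⟨⟨wA, fun u => ?_⟩, ⟨wB, fun u => ?_⟩⟩
  · rw [← psiL_top, ← psiL_six, mul_inv_eq_iff_eq_mul, ← map_mul, ← map_mul, wA_mul]
  · rw [← psiL_top, ← psiL_ten, mul_inv_eq_iff_eq_mul, ← map_mul, ← map_mul, wB_mul]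

variable [Fintype F] [DecidableEq F] {k : ℕ} (ρ : Representation ℂ (Gp F) (Fin k → ℂ))

/-- The average over the highest root group. -/
noncomputable def MM (g : Gp F) : Module.End ℂ (Fin k → ℂ) :=
  (Fintype.card F : ℂ)⁻¹ • ∑ v, ρ (g * zz v)

/-- The coordinates on the long roots. -/
noncomputable def co (Λ : Chi F) : F × F := (BQ Λ 0, BQ Λ 3)

/-- The eigenprojection of the unipotent group of the long roots. -/
noncomputable def QP (c : F × F) : Module.End ℂ (Fin k → ℂ) :=
  ∑ Λ ∈ Finset.univ.filter (fun Λ : Chi F => co Λ = c), proj ρ (piQ F) Λ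

theorem sum_lam_proj (g : ↥(HQ F)) :
    ∑ Λ, lamH (piQ F) Λ g • proj ρ (piQ F) Λ = MM ρ g := by
  classical
  let f : F → ↥(HQ F) := fun v => g * zH (Multiplicative.ofAdd v)
  have hf : Function.Injective f := fun x y h =>
    Multiplicative.ofAdd.injective (zH_injective (mul_left_cancel h))
  have him : Finset.univ.filter (fun h => piQ F h = piQ F g) = Finset.univ.image f := by
    ext h
    simp only [Finset.mem_filter, Finset.mem_univ, true_and, Finset.mem_image]
    constructor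
    · intro hh
      obtain ⟨v, hv⟩ := QuotientGroup.eq.1 hh.symm
      refine ⟨v.toAdd, ?_⟩
      show g * zH (Multiplicative.ofAdd v.toAdd) = h
      rw [ofAdd_toAdd, hv, mul_inv_cancel_left]
    · rintro ⟨v, rfl⟩
      show piQ F (g * zH (Multiplicative.ofAdd v)) = piQ F g
      rw [map_mul, mul_eq_left]
      exact piQ_zz v
  have h := sum_proj ρ (piQ F) g
  rw [him, Finset.sum_image fun x _ y _ e => hf e, card_HQ, Nat.cast_mul, mul_smul] at h
  have h2 := smul_right_injective (Module.End ℂ (Fin k → ℂ))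
    (Nat.cast_ne_zero.2 (Fintype.card_ne_zero (α := QB F)) : (Fintype.card (QB F) : ℂ) ≠ 0) h
  rw [MM, eq_inv_smul_iff₀ (Nat.cast_ne_zero.2 Fintype.card_ne_zero)]
  exact h2

/-- The element with given parameters. -/
noncomputable def uw (u w : F) : ↥(HQ F) := ⟨xs 0 u * xs 3 w, mul_mem (xs_mem 0 u) (xs_mem 3 w)⟩

theorem lam_uw (Λ : Chi F) (u w : F) :
    lamH (piQ F) Λ (uw u w) = psi F (BQ Λ 0 * u) * psi F (BQ Λ 3 * w) := by
  rw [← BQ_spec, ← BQ_spec, ← lamH_mul]
  rfl

/-- Fourier inversion on the long coordinates. -/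
theorem QP_eq (c : F × F) : ((Fintype.card F : ℂ) ^ 2) • QP ρ c =
    ∑ u, ∑ w, psi F (-(c.1 * u)) • psi F (-(c.2 * w)) • MM ρ (uw u w) := by
  simp only [← sum_lam_proj, Finset.smul_sum, smul_smul, lam_uw]
  rw [QP, Finset.smul_sum, Finset.sum_filter]
  rw [Finset.sum_congr rfl fun u _ => Finset.sum_comm, Finset.sum_comm]
  refine Finset.sum_congr rfl fun Λ _ => ?_
  simp only [← Finset.sum_smul]
  have e : (∑ u, ∑ w, psi F (-(c.1 * u)) * psi F (-(c.2 * w)) *
      (psi F (BQ Λ 0 * u) * psi F (BQ Λ 3 * w))) =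
      (∑ u, psi F ((BQ Λ 0 - c.1) * u)) * ∑ w, psi F ((BQ Λ 3 - c.2) * w) := by
    rw [Finset.sum_mul_sum]
    refine Finset.sum_congr rfl fun u _ => Finset.sum_congr rfl fun w _ => ?_
    rw [sub_eq_neg_add, sub_eq_neg_add, add_mul, add_mul, neg_mul, neg_mul,
      AddChar.map_add_eq_mul, AddChar.map_add_eq_mul]
    ring
  simp only [mul_assoc] at e ⊢
  rw [e, sum_psi, sum_psi]
  simp only [co, Prod.ext_iff, sub_eq_zero]
  by_cases h1 : BQ Λ 0 = c.1 <;> by_cases h2 : BQ Λ 3 = c.2 <;> simp [h1, h2, sq]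

/-- An endomorphism commuting with the long root group. -/
def CommL (E : Module.End ℂ (Fin k → ℂ)) : Prop := ∀ g, InL g → E * ρ g = ρ g * E

theorem commute_MM {E : Module.End ℂ (Fin k → ℂ)} (hE : CommL ρ E) {g : Gp F} (hg : InL g) :
    E * MM ρ g = MM ρ g * E := by
  rw [MM, mul_smul_comm, smul_mul_assoc, Finset.mul_sum, Finset.sum_mul]
  exact congrArg _ (Finset.sum_congr rfl fun v _ => hE _ (inL_mul hg (inL_zz v)))

theorem commute_QP {E : Module.End ℂ (Fin k → ℂ)} (hE : CommL ρ E) (c : F × F) :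
    E * QP ρ c = QP ρ c * E := by
  have h : E * (((Fintype.card F : ℂ) ^ 2) • QP ρ c) =
      (((Fintype.card F : ℂ) ^ 2) • QP ρ c) * E := by
    rw [QP_eq, Finset.mul_sum, Finset.sum_mul]
    refine Finset.sum_congr rfl fun u _ => ?_
    rw [Finset.mul_sum, Finset.sum_mul]
    refine Finset.sum_congr rfl fun w _ => ?_
    rw [mul_smul_comm, mul_smul_comm, smul_mul_assoc, smul_mul_assoc,
      show E * MM ρ (uw u w : Gp F) = MM ρ (uw u w : Gp F) * E from
        commute_MM ρ hE (inL_mul (inL_xs_zero u) (inL_xs_three w))]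
  rw [mul_smul_comm, smul_mul_assoc] at h
  exact smul_right_injective (Module.End ℂ (Fin k → ℂ))
    (pow_ne_zero 2 (Nat.cast_ne_zero.2 Fintype.card_ne_zero) : (Fintype.card F : ℂ) ^ 2 ≠ 0) h

theorem QP_sq (c : F × F) : QP ρ c * QP ρ c = QP ρ c := by
  rw [QP, Finset.sum_mul]
  refine Finset.sum_congr rfl fun Λ hΛ => ?_
  rw [Finset.mul_sum, Finset.sum_eq_single Λ]
  · exact proj_sq ρ (piQ F) Λ
  · exact fun Λ' _ hne => proj_orth ρ (piQ F) piQ_surjective hne.symm
  · exact fun h => absurd hΛ h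

variable {E : Module.End ℂ (Fin k → ℂ)}

/-- The multiplicity of the long coordinates. -/
noncomputable def del (E : Module.End ℂ (Fin k → ℂ)) (c : F × F) : ℕ :=
  Module.finrank ℂ (LinearMap.range (E * QP ρ c))

theorem EQ_sq (hE : CommL ρ E) (hi : E * E = E) (c : F × F) :
    E * QP ρ c * (E * QP ρ c) = E * QP ρ c := by
  rw [mul_assoc, ← mul_assoc (QP ρ c), ← commute_QP ρ hE c, mul_assoc E (QP ρ c), QP_sq,
    ← mul_assoc, hi]

theorem trace_EQ (hE : CommL ρ E) (hi : E * E = E) (c : F × F) :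
    LinearMap.trace ℂ _ (E * QP ρ c) = (del ρ E c : ℂ) :=
  (LinearMap.IsProj.mk (fun x => LinearMap.mem_range_self _ x) (by
    rintro _ ⟨x, rfl⟩
    exact LinearMap.congr_fun (EQ_sq ρ hE hi c) x) :
    LinearMap.IsProj (LinearMap.range (E * QP ρ c)) (E * QP ρ c)).trace

/-- The trace against the average. -/
theorem trace_EM (hE : CommL ρ E) (hi : E * E = E) (u w : F) :
    ∑ c : F × F, (del ρ E c : ℂ) * (psi F (c.1 * u) * psi F (c.2 * w)) =
      LinearMap.trace ℂ _ (E * MM ρ (uw u w)) := by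
  rw [← sum_lam_proj, Finset.mul_sum, map_sum]
  rw [← Finset.sum_fiberwise Finset.univ co]
  refine Finset.sum_congr rfl fun c _ => ?_
  rw [← trace_EQ ρ hE hi, QP, Finset.mul_sum, map_sum, Finset.sum_mul]
  refine Finset.sum_congr rfl fun Λ hΛ => ?_
  have hc : co Λ = c := (Finset.mem_filter.1 hΛ).2
  rw [mul_smul_comm, map_smul, lam_uw, smul_eq_mul, ← hc, co]
  ring

/-- The trace of the commuting endomorphism is a class function. -/
theorem trE_conj (hE : CommL ρ E) {X : Gp F} (hX : InL X) (g : Gp F) :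
    LinearMap.trace ℂ _ (E * ρ (X * g * X⁻¹)) = LinearMap.trace ℂ _ (E * ρ g) := by
  rw [map_mul ρ, map_mul ρ, ← mul_assoc, ← mul_assoc, hE X hX, mul_assoc, mul_assoc,
    LinearMap.trace_mul_comm, mul_assoc, mul_assoc, ← map_mul ρ X⁻¹ X, inv_mul_cancel, map_one,
    mul_one]

theorem trE_zz (hE : CommL ρ E) {v : F} (hv : v ≠ 0) :
    LinearMap.trace ℂ _ (E * ρ (zz v)) = LinearMap.trace ℂ _ (E * ρ (zz (1 : F))) := by
  have h := hh_zz (1 : Fˣ) (Units.mk0 v hv) 1
  rw [Units.val_mk0, mul_one] at h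
  rw [← h, trE_conj ρ hE (inL_hh _ _)]

theorem trE_xs_zero (hE : CommL ρ E) {u : F} (hu : u ≠ 0) (v : F) :
    LinearMap.trace ℂ _ (E * ρ (xs 0 u * zz v)) = LinearMap.trace ℂ _ (E * ρ (zz (1 : F))) := by
  have e : xs 3 (-v / u) * xs 0 u * (xs 3 (-v / u))⁻¹ = xs 0 u * zz v := by
    rw [xs_pair]
    congr 2
    field_simp
  rw [← e, trE_conj ρ hE (inL_xs_three _)]
  obtain ⟨⟨X, hX⟩, -⟩ := exists_long_weyl (F := F)
  have h := hX (-u)
  rw [neg_neg] at h
  rw [← h, trE_conj ρ hE ⟨X, rfl⟩, trE_zz ρ hE (neg_ne_zero.2 hu)]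

theorem trE_xs_three (hE : CommL ρ E) {u : F} (hu : u ≠ 0) (v : F) :
    LinearMap.trace ℂ _ (E * ρ (xs 3 u * zz v)) = LinearMap.trace ℂ _ (E * ρ (zz (1 : F))) := by
  have e : xs 0 (v / u) * xs 3 u * (xs 0 (v / u))⁻¹ = xs 3 u * zz v := by
    have h := xs_pair (v / u) u
    rw [mul_inv_eq_iff_eq_mul, mul_assoc, (zz_commute_xs 3 u _).eq, ← mul_assoc] at h
    rw [mul_inv_eq_iff_eq_mul, mul_assoc, (zz_commute_xs 0 (v / u) _).eq, ← mul_assoc, h,
      mul_assoc, ← zz_add, show -(u * (v / u)) + v = 0 by field_simp; ring, zz_zero, mul_one]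
  rw [← e, trE_conj ρ hE (inL_xs_zero _)]
  obtain ⟨-, X, hX⟩ := exists_long_weyl (F := F)
  have h := hX (-u)
  rw [neg_neg] at h
  rw [← h, trE_conj ρ hE ⟨X, rfl⟩, trE_zz ρ hE (neg_ne_zero.2 hu)]

/-- The dimension formula for a summand. -/
theorem dim_eq (hE : CommL ρ E) (hi : E * E = E) :
    Module.finrank ℂ (LinearMap.range E) =
        (∑ c, del ρ E c) + Fintype.card F * ∑ c ∈ Finset.univ.filter (fun c : F × F => c.1 ≠ 0), del ρ E c ∧
    Module.finrank ℂ (LinearMap.range E) =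
        (∑ c, del ρ E c) + Fintype.card F * ∑ c ∈ Finset.univ.filter (fun c : F × F => c.2 ≠ 0), del ρ E c := by
  classical
  set q := Fintype.card F with hqdef
  have hq : (q : ℂ) ≠ 0 := Nat.cast_ne_zero.2 Fintype.card_ne_zero
  set θ := LinearMap.trace ℂ _ (E * ρ (zz (1 : F))) with hθ
  have hdim : LinearMap.trace ℂ _ E = (Module.finrank ℂ (LinearMap.range E) : ℂ) :=
    (LinearMap.IsProj.mk (fun x => LinearMap.mem_range_self _ x) (by
      rintro _ ⟨x, rfl⟩
      exact LinearMap.congr_fun hi x) : LinearMap.IsProj (LinearMap.range E) E).trace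
  set m := Module.finrank ℂ (LinearMap.range E) with hm
  have htr : ∀ g : Gp F, LinearMap.trace ℂ _ (E * MM ρ g) =
      (q : ℂ)⁻¹ * ∑ v, LinearMap.trace ℂ _ (E * ρ (g * zz v)) := fun g => by
    rw [MM, mul_smul_comm, map_smul, Finset.mul_sum, map_sum, smul_eq_mul, hqdef]
  have hone : (q : ℂ) * ∑ c : F × F, (del ρ E c : ℂ) = (m : ℂ) + ((q : ℂ) - 1) * θ := by
    have h := trace_EM ρ hE hi 0 0
    simp only [mul_zero, AddChar.map_zero_eq_one, mul_one] at h
    rw [h, htr, ← mul_assoc, mul_inv_cancel₀ hq, one_mul,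
      ← Finset.add_sum_erase _ _ (Finset.mem_univ (0 : F)),
      show ((uw 0 0 : ↥(HQ F)) : Gp F) = 1 by simp [uw, xs_zero], one_mul, zz_zero, map_one, mul_one,
      hdim, Finset.sum_congr rfl fun v hv => by
        rw [one_mul, trE_zz ρ hE (Finset.ne_of_mem_erase hv)],
      Finset.sum_const, Finset.card_erase_of_mem (Finset.mem_univ _), Finset.card_univ, nsmul_eq_mul,
      Nat.cast_sub Fintype.card_pos, Nat.cast_one]
  have key : ∀ (π : F × F → F) (e : F → F × F), (∀ u (c : F × F),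
      psi F (c.1 * (e u).1) * psi F (c.2 * (e u).2) = psi F (π c * u)) →
      (∀ u, u ≠ 0 → LinearMap.trace ℂ _ (E * MM ρ (uw (e u).1 (e u).2)) = θ) →
      m = (∑ c, del ρ E c) + q * ∑ c ∈ Finset.univ.filter (fun c : F × F => π c ≠ 0), del ρ E c := by
    intro π e he hθe
    have h1 : ∑ u, ∑ c : F × F, (del ρ E c : ℂ) * psi F (π c * u) =
        (∑ c : F × F, (del ρ E c : ℂ)) + ((q : ℂ) - 1) * θ := by
      have hθ' : ∀ u : F, u ≠ 0 → ∑ c : F × F, (del ρ E c : ℂ) * psi F (π c * u) = θ := fun u hu => by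
        rw [← hθe u hu, ← trace_EM ρ hE hi]
        exact Finset.sum_congr rfl fun c _ => by rw [he u c]
      rw [← Finset.add_sum_erase _ _ (Finset.mem_univ (0 : F)),
        Finset.sum_congr rfl fun u hu => hθ' u (Finset.ne_of_mem_erase hu),
        Finset.sum_const, Finset.card_erase_of_mem (Finset.mem_univ _), Finset.card_univ,
        nsmul_eq_mul, Nat.cast_sub Fintype.card_pos, Nat.cast_one]
      congr 1
      exact Finset.sum_congr rfl fun c _ => by rw [mul_zero, AddChar.map_zero_eq_one, mul_one]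
    have h2 : ∑ u, ∑ c : F × F, (del ρ E c : ℂ) * psi F (π c * u) =
        (q : ℂ) * ((∑ c : F × F, (del ρ E c : ℂ)) -
          ∑ c ∈ Finset.univ.filter (fun c : F × F => π c ≠ 0), (del ρ E c : ℂ)) := by
      rw [Finset.sum_comm, Finset.sum_filter, ← Finset.sum_sub_distrib, Finset.mul_sum]
      refine Finset.sum_congr rfl fun c _ => ?_
      rw [← Finset.mul_sum, sum_psi]
      by_cases h : π c = 0 <;> simp [h, hqdef, mul_comm]
    have : (m : ℂ) = (((∑ c, del ρ E c) +
        q * ∑ c ∈ Finset.univ.filter (fun c : F × F => π c ≠ 0), del ρ E c : ℕ) : ℂ) := by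
      push_cast
      linear_combination h1 - h2 - hone
    exact_mod_cast this
  have hval : ∀ g : Gp F, (∀ v, LinearMap.trace ℂ _ (E * ρ (g * zz v)) = θ) →
      LinearMap.trace ℂ _ (E * MM ρ g) = θ := fun g hg => by
    rw [htr, Finset.sum_congr rfl fun v _ => hg v, Finset.sum_const, Finset.card_univ, nsmul_eq_mul,
      ← mul_assoc, inv_mul_cancel₀ hq, one_mul]
  refine ⟨key Prod.fst (fun u => (u, 0)) (fun u c => by simp) fun u hu => hval _ fun v => ?_,
    key Prod.snd (fun u => (0, u)) (fun u c => by simp) fun u hu => hval _ fun v => ?_⟩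
  · show LinearMap.trace ℂ _ (E * ρ (xs 0 u * xs 3 0 * zz v)) = θ
    rw [xs_zero, mul_one]
    exact trE_xs_zero ρ hE hu v
  · show LinearMap.trace ℂ _ (E * ρ (xs 0 0 * xs 3 u * zz v)) = θ
    rw [xs_zero, one_mul]
    exact trE_xs_three ρ hE hu v

/-- Invariance under the torus. -/
theorem del_torus (hE : CommL ρ E) (hi : E * E = E) (a b : Fˣ) (c : F × F) :
    del ρ E ((b : F) ^ 2 / (a : F) ^ 3 * c.1, (a : F) ^ 3 / (b : F) * c.2) = del ρ E c := by
  classical
  set g := hh a b with hg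
  set c' : F × F := ((b : F) ^ 2 / (a : F) ^ 3 * c.1, (a : F) ^ 3 / (b : F) * c.2) with hc'
  have ha := a.ne_zero
  have hb := b.ne_zero
  have hconj : ρ g * QP ρ c' = QP ρ c * ρ g := by
    rw [QP, QP, Finset.mul_sum, Finset.sum_mul]
    let e : Chi F ≃ Chi F := Equiv.ofBijective (actL (nrm_hh a b))
      (Finite.injective_iff_bijective.1 (actL_injective _))
    refine (Finset.sum_equiv e ?_ ?_).symm
    · intro Λ
      simp only [Finset.mem_filter, Finset.mem_univ, true_and, e, Equiv.ofBijective_apply, co,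
        BQ_hh, hc', Prod.ext_iff]
      simp [opH, ha, hb]
    · intro Λ _
      exact (proj_conj ρ (piQ F) (conjE (nrm_hh a b)) (conjE_val _) (lamH_actL (nrm_hh a b) Λ)).symm
  have h1 : E * QP ρ c' = ρ g⁻¹ * (E * QP ρ c * ρ g) := by
    rw [mul_assoc E, ← hconj, ← mul_assoc E, hE g (inL_hh a b), ← mul_assoc, ← mul_assoc,
      ← map_mul, inv_mul_cancel, map_one, one_mul]
  have h2 := congrArg (LinearMap.trace ℂ _) h1
  rw [trace_EQ ρ hE hi, LinearMap.trace_mul_comm, mul_assoc, ← map_mul, mul_inv_cancel, map_one,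
    mul_one, trace_EQ ρ hE hi] at h2
  exact_mod_cast h2

end Cfsg.Agent.G2Deg
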