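import Cfsg.Agent.G2Deg.Summand
import Cfsg.Agent.G2Deg.Counts
import Cfsg.Agent.G2Deg.Arith

/-!
The case of a field with cube roots of one.
-/

set_option autoImplicit false
set_option maxRecDepth 100000

namespace Cfsg.Agent.G2Deg

open Cfsg.Lie Cfsg.Agent.Chev Matrix
open Cfsg.Agent.E6Deg (lamH pdim proj proj_sq proj_orth proj_conj trace_proj proj_eq_zero)

universe u

variable {F : Type u} [Field F] [Fintype F] [DecidableEq F] {k : ℕ}
  (ρ : Representation ℂ (Gp F) (Fin k → ℂ))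

local notation "S3" => SpecialLinearGroup (Fin 3) F

theorem range_proj_rank {Λ : Chi F} :
    Module.finrank ℂ (LinearMap.range (proj ρ (piQ F) Λ)) = dd ρ Λ := rfl

/-- The eigenvalue of the centre on an irreducible summand. -/
theorem exists_scalar_centre {E : Module.End ℂ (Fin k → ℂ)} (hinv : InvL ρ (LinearMap.range E))
    (hirr : ∀ U, InvL ρ U → U ≤ LinearMap.range E → U = ⊥ ∨ U = LinearMap.range E)
    (hne : LinearMap.range E ≠ ⊥) {s : Gp F} (hs : InL s) (hcen : ∀ X : S3, Commute s (psiL X)) :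
    ∃ μ : ℂ, ∀ v ∈ LinearMap.range E, ρ s v = μ • v := by
  set W := LinearMap.range E with hW
  have hsW : ∀ v ∈ W, ρ s v ∈ W := by
    obtain ⟨X, rfl⟩ := hs
    exact hinv X
  haveI : Nontrivial W := Submodule.nontrivial_iff_ne_bot.2 hne
  obtain ⟨μ, hμ⟩ := Module.End.exists_eigenvalue ((ρ s).restrict hsW)
  obtain ⟨w, hw⟩ := hμ.exists_hasEigenvector
  let U : Submodule ℂ (Fin k → ℂ) :=
    W ⊓ LinearMap.ker (ρ s - μ • LinearMap.id)
  have hU : ∀ v, v ∈ U ↔ v ∈ W ∧ ρ s v = μ • v := fun v => by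
    simp [U, sub_eq_zero]
  have hUinv : InvL ρ U := fun X v hv => by
    rw [hU] at hv ⊢
    refine ⟨hinv X v hv.1, ?_⟩
    rw [← Module.End.mul_apply, ← map_mul, (hcen X).eq, map_mul, Module.End.mul_apply, hv.2,
      map_smul]
  rcases hirr U hUinv inf_le_left with h | h
  · exfalso
    have hmem : (w : Fin k → ℂ) ∈ U := (hU _).2 ⟨w.2, congrArg Subtype.val hw.apply_eq_smul⟩
    rw [h, Submodule.mem_bot] at hmem
    exact hw.2 (Subtype.ext hmem)
  · exact ⟨μ, fun v hv => ((hU v).1 (h.ge hv)).2⟩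

theorem diag_omega {w : Fˣ} (hw : (w : F) ^ 3 = 1) (X : S3) :
    Commute (hh w (1 : Fˣ)) (psiL X) := by
  rw [← psiL_diag]
  refine Commute.map ?_ psiL
  apply Matrix.SpecialLinearGroup.ext
  intro i j
  have hinv : ((w⁻¹ : Fˣ) : F) = (w : F) ^ 2 := by
    rw [Units.val_inv_eq_inv_val]
    refine inv_eq_of_mul_eq_one_right ?_
    rw [← pow_succ']; exact hw
  have e : ((G2Singer.diagElt fun i : Fin chevG2.rank => if i.1 = 0 then w else 1 : S3) :
      Matrix (Fin 3) (Fin 3) F) = Matrix.scalar (Fin 3) ((w : F) ^ 2) := by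
    show Matrix.diagonal _ = Matrix.diagonal _
    congr 1
    funext i
    fin_cases i
    · show ((w ^ 2 / 1 : Fˣ) : F) = _
      simp
    · show ((1 / w : Fˣ) : F) = (w : F) ^ 2
      rw [one_div, hinv]
    · exact hinv
  rw [Matrix.SpecialLinearGroup.coe_mul, Matrix.SpecialLinearGroup.coe_mul, e,
    (Matrix.scalar_commute ((w : F) ^ 2) (fun r' => Commute.all _ r') _).eq]

theorem card_S3 :
    Nat.card S3 = Fintype.card F ^ 3 * (Fintype.card F - 1) ^ 2 * (Fintype.card F + 1) *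
      (Fintype.card F * Fintype.card F + Fintype.card F + 1) := by
  classical
  set q := Fintype.card F with hqdef
  have hq : 2 ≤ q := Fintype.one_lt_card
  have h := Classical.card_gl_eq_mul_card_sl (ι := Fin 3) (F := F)
  rw [Matrix.card_GL_field, Fin.prod_univ_three, ← hqdef] at h
  simp only [Fin.val_zero, Fin.val_one, Fin.val_two, pow_zero, pow_one] at h
  refine Nat.eq_of_mul_eq_mul_left (show 0 < q - 1 by omega) (h.symm.trans ?_)
  obtain ⟨n, hn⟩ : ∃ n, q = n + 2 := ⟨q - 2, by omega⟩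
  rw [hn]
  have e0 : (n + 2) ^ 3 - 1 = (n + 1) * ((n + 2) * (n + 2) + (n + 2) + 1) :=
    Nat.sub_eq_of_eq_add (by ring)
  have e1 : (n + 2) ^ 3 - (n + 2) = (n + 2) * ((n + 1) * (n + 3)) :=
    Nat.sub_eq_of_eq_add (by ring)
  have e2 : (n + 2) ^ 3 - (n + 2) ^ 2 = (n + 2) ^ 2 * (n + 1) :=
    Nat.sub_eq_of_eq_add (by ring)
  rw [e0, e1, e2, show n + 2 - 1 = n + 1 by omega]
  ring

/-- The generic long coordinate has multiplicity at most one in a summand. -/
theorem del_generic {E : Module.End ℂ (Fin k → ℂ)} (hE : CommL ρ E) (hi : E * E = E)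
    (hinv : InvL ρ (LinearMap.range E))
    (hirr : ∀ U, InvL ρ U → U ≤ LinearMap.range E → U = ⊥ ∨ U = LinearMap.range E)
    (hne : LinearMap.range E ≠ ⊥)
    (hsup : ∀ B : Fin 4 → F, B ≠ 0 → ¬ IsCube B → mult ρ B = 0)
    (h1 : mult ρ ![1, 0, 0, 0] = 1) (hq : Fintype.card F % 3 = 1) : del ρ E (1, 1) ≤ 1 := by
  classical
  obtain ⟨w, hw, hw1, hw2⟩ := exists_omega hq
  have hw0 : w ≠ 0 := fun h0 => by rw [h0] at hw; simp at hw
  set wu : Fˣ := Units.mk0 w hw0 with hwu
  set s : Gp F := hh wu 1 with hs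
  obtain ⟨μ, hμ⟩ := exists_scalar_centre ρ hinv hirr hne (inL_hh wu 1) fun X => diag_omega hw X
  have hcube : IsCube (opA (1 : F) ![0, 0, 0, 1]) := cube_param one_ne_zero
  obtain ⟨Λ₁, hΛ₁, hd₁⟩ := exists_of_mult ρ (B := opA (1 : F) ![0, 0, 0, 1])
    (by rw [(wt ρ).cube_eq hcube, h1]; exact one_pos)
  rw [(wt ρ).cube_eq hcube, h1] at hd₁
  let R := LinearMap.range (E * QP ρ (1, 1))
  let f : R →ₗ[ℂ] LinearMap.range (proj ρ (piQ F) Λ₁) :=
    ((proj ρ (piQ F) Λ₁).rangeRestrict).comp R.subtype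
  have hkey : ∀ v ∈ R, proj ρ (piQ F) Λ₁ v = 0 → v = 0 := by
    intro v hv hv1
    obtain ⟨x, hx⟩ := hv
    have hEv : v ∈ LinearMap.range E := ⟨QP ρ (1, 1) x, hx⟩
    have hQv : QP ρ (1, 1) v = v := by
      rw [← hx, ← Module.End.mul_apply, ← mul_assoc, ← commute_QP ρ hE, mul_assoc, QP_sq]
    have hrot : ∀ a : F, ∀ Λ Λ' : Chi F, BQ Λ = opA a ![0, 0, 0, 1] →
        BQ Λ' = opA (a * w) ![0, 0, 0, 1] → proj ρ (piQ F) Λ v = 0 → proj ρ (piQ F) Λ' v = 0 := by
      intro a Λ Λ' hΛ hΛ' h0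
      have e : actL (nrm_hh wu 1) Λ = Λ' := by
        refine BQ_injective ?_
        rw [BQ_hh, hΛ, hΛ']
        funext S
        fin_cases S <;> simp [opA, opH, hwu]
        · field_simp
          linear_combination -(a ^ 3 * w ^ 3 + a ^ 3) * hw
        · field_simp
          linear_combination (-(3 * a ^ 2)) * hw
        · ring
        · exact hw
      have h := LinearMap.congr_fun (proj_conj ρ (piQ F) (conjE (nrm_hh wu 1))
        (conjE_val (nrm_hh wu 1)) (lamH_actL (nrm_hh wu 1) Λ)) v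
      rw [Module.End.mul_apply, Module.End.mul_apply, hμ v hEv, map_smul, h0, smul_zero, e] at h
      have h2 := congrArg (ρ (hh wu 1)⁻¹) h
      rwa [map_zero, Representation.inv_self_apply] at h2
    rw [← hQv, QP, LinearMap.sum_apply]
    refine Finset.sum_eq_zero fun Λ hΛ => ?_
    by_cases hd : dd ρ Λ = 0
    · rw [proj_eq_zero ρ (piQ F) hd, LinearMap.zero_apply]
    have hco : BQ Λ 0 = 1 ∧ BQ Λ 3 = 1 := by
      have := (Finset.mem_filter.1 hΛ).2
      simpa [co, Prod.ext_iff] using this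
    have hcub : IsCube (BQ Λ) := by
      by_contra hc
      rw [dd_eq_mult, hsup _ (fun e => by rw [e] at hco; simp at hco) hc] at hd
      exact hd rfl
    obtain ⟨a, ha⟩ := cube_top_ne hcub (by rw [hco.2]; exact one_ne_zero)
    rw [hco.2] at ha
    have ha3 : a ^ 3 = 1 := by
      have := congrFun ha 0
      rw [hco.1] at this
      simp [opA] at this
      exact this.symm
    rcases cube_eq_one hw hw2 ha3 with rfl | rfl | rfl
    · rw [BQ_injective (ha.trans hΛ₁.symm)]; exact hv1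
    · exact hrot 1 Λ₁ Λ hΛ₁ (by rw [one_mul]; exact ha) hv1
    · obtain ⟨Λ₂, hΛ₂, -⟩ := exists_of_mult ρ (B := opA w ![0, 0, 0, 1])
        (by rw [(wt ρ).cube_eq (cube_param one_ne_zero), h1]; exact one_pos)
      exact hrot w Λ₂ Λ hΛ₂ ha (hrot 1 Λ₁ Λ₂ hΛ₁ (by rw [one_mul]; exact hΛ₂) hv1)
  have hf : Function.Injective f := by
    rw [← LinearMap.ker_eq_bot, Submodule.eq_bot_iff]
    intro v hv
    exact Subtype.ext (hkey v.1 v.2 (congrArg Subtype.val (LinearMap.mem_ker.1 hv)))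
  exact (LinearMap.finrank_le_finrank_of_injective hf).trans (le_of_eq ((range_proj_rank ρ).trans hd₁))

/-- The small degree is impossible. -/
theorem one_case (hsup : ∀ B : Fin 4 → F, B ≠ 0 → ¬ IsCube B → mult ρ B = 0)
    (h1 : mult ρ ![1, 0, 0, 0] = 1) (h0 : mult ρ 0 ≤ 1) (hq : Fintype.card F % 3 = 1)
    (h7 : 7 ≤ Fintype.card F) : False := by
  classical
  set q := Fintype.card F with hqdef
  have hW := wt ρ
  have htot10 : tot ρ ((1 : F), (0 : F)) = 1 := (hW.tot_axis hsup one_ne_zero).trans h1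
  obtain ⟨E, hE, hi, hax, hinv, hirr, hX⟩ := exists_summand ρ htot10
  have hax1 : del ρ E ((1 : F), (0 : F)) = 1 := le_antisymm ((del_le ρ hE _).trans_eq htot10) hax
  set f := del ρ E ((0 : F), (0 : F)) with hf
  set e3 := del ρ E ((0 : F), (1 : F)) with he3
  set n := del ρ E ((1 : F), (1 : F)) with hn
  have hne : LinearMap.range E ≠ ⊥ := by
    obtain ⟨X, v, hv, hvne⟩ := hX
    intro h
    rw [h, Submodule.mem_bot] at hv
    rw [hv, map_zero] at hvne
    exact hvne rfl
  have hn1 : n ≤ 1 := del_generic ρ hE hi hinv hirr hne hsup h1 hq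
  have hf1 : f ≤ 1 := ((del_le ρ hE ((0 : F), (0 : F))).trans_eq (Wt.tot_zero hsup)).trans h0
  have hA : ∀ α : F, α ≠ 0 → del ρ E (α, 0) = 1 := fun α hα => by
    rw [← hax1, ← del_torus ρ hE hi (Units.mk0 α hα) (Units.mk0 (α ^ 2) (pow_ne_zero _ hα))
      ((1 : F), (0 : F))]
    congr 1
    simp only [Units.val_mk0, Prod.mk.injEq, mul_zero, mul_one, and_true]
    field_simp
  have hB : ∀ β : F, β ≠ 0 → del ρ E (0, β) = e3 := fun β hβ => by
    rw [he3, ← del_torus ρ hE hi (Units.mk0 β hβ) (Units.mk0 (β ^ 2) (pow_ne_zero _ hβ))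
      ((0 : F), (1 : F))]
    congr 1
    simp only [Units.val_mk0, Prod.mk.injEq, mul_zero, mul_one, true_and]
    field_simp
  have hG : ∀ α β : F, α ≠ 0 → β ≠ 0 →
      del ρ E (α, β) = if α / β ∈ cubes F then n else 0 := fun α β hα hβ => by
    split_ifs with hc
    · obtain ⟨a, ha0, ha⟩ := mem_cubes.1 hc
      rw [hn, ← del_torus ρ hE hi (Units.mk0 (a * β) (mul_ne_zero ha0 hβ))
        (Units.mk0 (α * β) (mul_ne_zero hα hβ)) ((1 : F), (1 : F))]
      congr 1
      simp only [Units.val_mk0, mul_one, Prod.mk.injEq, mul_pow, ha]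
      constructor <;> field_simp
    · exact Nat.eq_zero_of_le_zero ((del_le ρ hE _).trans_eq (Wt.tot_off hsup hα hβ hc))
  have hnz : (Finset.univ.filter fun x : F => x ≠ 0).card = q - 1 := by
    rw [Finset.filter_ne', Finset.card_erase_of_mem (Finset.mem_univ _), Finset.card_univ]
  set M := (cubes F).card with hM
  have hM3 : 3 * M = q - 1 := card_cubes hq
  have hrow : ∀ β : F, β ≠ 0 →
      ∑ α ∈ Finset.univ.filter (fun x : F => x ≠ 0), del ρ E (α, β) = M * n := fun β hβ => by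
    rw [Finset.sum_congr rfl fun α hα => hG α β (Finset.mem_filter.1 hα).2 hβ, ← Finset.sum_filter,
      Finset.sum_const, smul_eq_mul, hM]
    congr 1
    refine (Finset.card_bij' (fun γ _ => γ * β) (fun α _ => α / β) ?_ ?_ ?_ ?_).symm
    · intro γ hγ
      obtain ⟨x, hx, rfl⟩ := mem_cubes.1 hγ
      simp [mul_ne_zero (pow_ne_zero 3 hx) hβ, hβ, mul_div_assoc, mem_cubes]
      exact ⟨x, hx, rfl⟩
    · intro α hα
      exact (Finset.mem_filter.1 hα).2
    · intro γ _; field_simp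
    · intro α _; field_simp
  have hsplit : ∀ (g : F → ℕ), ∑ x, g x = g 0 + ∑ x ∈ Finset.univ.filter (fun x : F => x ≠ 0), g x :=
    fun g => by rw [Finset.filter_ne', Finset.add_sum_erase _ _ (Finset.mem_univ _)]
  have hz : ∑ α ∈ Finset.univ.filter (fun x : F => x ≠ 0), del ρ E (α, 0) = q - 1 := by
    rw [Finset.sum_congr rfl fun α hα => hA α (Finset.mem_filter.1 hα).2, Finset.sum_const, hnz,
      smul_eq_mul, mul_one]
  have hc1 : ∑ c ∈ Finset.univ.filter (fun c : F × F => c.1 ≠ 0), del ρ E c =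
      (q - 1) + (q - 1) * (M * n) := by
    rw [Finset.sum_filter, Fintype.sum_prod_type_right, hsplit]
    simp only [← Finset.sum_filter]
    rw [hz, Finset.sum_congr rfl fun β hβ => hrow β (Finset.mem_filter.1 hβ).2, Finset.sum_const,
      hnz, smul_eq_mul]
  have hc2 : ∑ c ∈ Finset.univ.filter (fun c : F × F => c.2 ≠ 0), del ρ E c =
      (q - 1) * e3 + (q - 1) * (M * n) := by
    rw [Finset.sum_filter, Fintype.sum_prod_type, hsplit]
    simp only [← Finset.sum_filter]
    rw [Finset.sum_congr rfl fun β hβ => hB β (Finset.mem_filter.1 hβ).2, Finset.sum_const, hnz,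
      smul_eq_mul]
    congr 1
    rw [Finset.sum_comm, Finset.sum_congr rfl fun β hβ => hrow β (Finset.mem_filter.1 hβ).2,
      Finset.sum_const, hnz, smul_eq_mul]
  have hall : ∑ c, del ρ E c = f + (q - 1) + ((q - 1) * e3 + (q - 1) * (M * n)) := by
    rw [Fintype.sum_prod_type_right, hsplit, hsplit, hz]
    congr 1
    rw [Finset.sum_congr rfl fun β hβ => (hsplit _).trans
      (congrArg₂ (· + ·) (hB β (Finset.mem_filter.1 hβ).2) (hrow β (Finset.mem_filter.1 hβ).2)),
      Finset.sum_const, hnz, smul_eq_mul, mul_add]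
  obtain ⟨hd1, hd2⟩ := dim_eq ρ hE hi
  rw [hall, hc1] at hd1
  rw [hall, hc2, ← hqdef] at hd2
  rw [← hqdef] at hd1
  set m := Module.finrank ℂ (LinearMap.range E) with hm
  have he31 : e3 = 1 := by
    have h' : q * ((q - 1) * e3 + (q - 1) * (M * n)) = q * (q - 1 + (q - 1) * (M * n)) := by omega
    have h'' := Nat.eq_of_mul_eq_mul_left (by omega) h'
    exact Nat.eq_of_mul_eq_mul_left (show 0 < q - 1 by omega) (by omega)
  rw [he31, mul_one] at hd1
  let π : Representation ℂ S3 (LinearMap.range E) :=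
    { toFun := fun X => (ρ (psiL X)).restrict (hinv X)
      map_one' := by ext v; simp
      map_mul' := fun X Y => by ext v; simp }
  have hlarge : q ^ 2 + q ≤ m := by
    have h := OrthDeg.sl_rep_large_gen (m := 0) π
      (fun _ => ⟨by omega, by omega⟩) (fun h => absurd h (by omega)) (by
        obtain ⟨X, v, hv, hvne⟩ := hX
        exact ⟨X, ⟨v, hv⟩, fun e => hvne (congrArg Subtype.val e)⟩)
    rw [← hqdef] at h
    refine le_trans (le_of_eq ?_) h
    symm
    refine Nat.div_eq_of_eq_mul_left (by omega) ?_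
    obtain ⟨j, hj⟩ : ∃ j, q = j + 1 := ⟨q - 1, by omega⟩
    rw [hj, Nat.add_sub_cancel]
    refine Nat.sub_eq_of_eq_add ?_
    ring
  rcases (by omega : n = 0 ∨ n = 1) with h | h
  · rw [h] at hd1
    simp only [mul_zero, add_zero] at hd1
    obtain ⟨j, hj⟩ : ∃ j, q = j + 1 := ⟨q - 1, by omega⟩
    rw [hj, Nat.add_sub_cancel] at hd1
    rw [hj] at hlarge
    nlinarith
  · rw [h, mul_one] at hd1
    have hirrπ : π.IsIrreducible := by
      refine Char.isIrreducible_iff.2 ⟨Submodule.nontrivial_iff_ne_bot.2 hne, fun U hU => ?_⟩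
      rcases hirr (U.map (LinearMap.range E).subtype) (fun X v hv => by
        obtain ⟨u, hu, rfl⟩ := hv
        exact ⟨π X u, hU X u hu, rfl⟩) (Submodule.map_subtype_le _ _) with h | h
      · exact Or.inl (Submodule.map_injective_of_injective (Submodule.injective_subtype _)
          (h.trans (Submodule.map_bot _).symm))
      · refine Or.inr (Submodule.map_injective_of_injective (Submodule.injective_subtype _) ?_)
        rw [h, Submodule.map_top, Submodule.range_subtype]
    set π' := Char.transport (Module.finBasis ℂ (LinearMap.range E)).equivFun π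
    have hdvd : m ∣ Nat.card S3 := by
      refine Char.IsIrr.degree_dvd_card (χ := π'.character)
        ⟨_, π', Char.isIrreducible_transport _ hirrπ, rfl⟩ ?_
      rw [Representation.char_one, Module.finrank_fin_fun]
    rw [card_S3, ← hqdef] at hdvd
    refine no_long_degree hq h7 (FiniteField.isPrimePow_card F) hf1 ?_ hdvd
    obtain ⟨j, hj⟩ : ∃ j, q = j + 1 := ⟨q - 1, by omega⟩
    rw [hj, Nat.add_sub_cancel] at hd1 hM3 ⊢
    rw [hd1, ← hM3]
    ring

end Cfsg.Agent.G2Deg
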