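import Cfsg.Agent.G2Deg.Cubics
import Mathlib.FieldTheory.Finite.Basic

/-!
The weights away from characteristic three: large orbits of cubics that are not cubes.
-/

set_option autoImplicit false
set_option maxRecDepth 100000

namespace Cfsg.Agent.G2Deg

open Polynomial

universe u

variable {F : Type u} [Field F] [Fintype F] [DecidableEq F]

/-- At most `n` solutions of a power equation. -/
theorem pow_fibre_le {n : ℕ} (hn : 0 < n) (c : F) :
    (Finset.univ.filter fun x : F => x ^ n = c).card ≤ n := by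
  classical
  refine le_trans (Finset.card_le_card (t := (nthRoots n c).toFinset) fun x hx => ?_)
    ((Multiset.toFinset_card_le _).trans (card_nthRoots n c))
  rw [Multiset.mem_toFinset, mem_nthRoots hn]
  exact (Finset.mem_filter.1 hx).2

/-- Cubing is injective when three is prime to the order of the multiplicative group. -/
theorem cube_injective (h : Fintype.card F % 3 = 2) {x y : F} (e : x ^ 3 = y ^ 3) : x = y := by
  set q := Fintype.card F
  have key : ∀ z : F, (z ^ 3) ^ ((2 * q - 1) / 3) = z := by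
    intro z
    rw [← pow_mul, show 3 * ((2 * q - 1) / 3) = q + (q - 1) by omega, pow_add, FiniteField.pow_card]
    by_cases hz : z = 0
    · rw [hz, zero_mul]
    · rw [FiniteField.pow_card_sub_one_eq_one z hz, mul_one]
  rw [← key x, e, key y]

/-- Parameters of the Borel subgroup acting on cubics. -/
def par (F : Type u) [Field F] [Fintype F] [DecidableEq F] : Finset (F × F × F) :=
  (Finset.univ.filter fun x : F => x ≠ 0) ×ˢ (Finset.univ.filter fun x : F => x ≠ 0) ×ˢ Finset.univ

theorem card_par : (par F).card = (Fintype.card F - 1) * ((Fintype.card F - 1) * Fintype.card F) := by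
  have h : (Finset.univ.filter fun x : F => x ≠ 0).card = Fintype.card F - 1 := by
    rw [Finset.filter_ne', Finset.card_erase_of_mem (Finset.mem_univ _), Finset.card_univ]
  rw [par, Finset.card_product, Finset.card_product, h, Finset.card_univ]

variable {D : (Fin 4 → F) → ℕ}

theorem Wt.orbit_bound (hW : Wt D) {E : Fin 4 → F} (hE : E ≠ 0) {e : ℕ}
    (hfib : ∀ p ∈ par F, ((par F).filter fun r =>
      opA r.2.2 (opH r.1 r.2.1 E) = opA p.2.2 (opH p.1 p.2.1 E)).card ≤ e) :
    (Fintype.card F - 1) * ((Fintype.card F - 1) * Fintype.card F) * D E ≤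
      e * SS D (fun B => B ≠ 0) := by
  classical
  rw [← card_par]
  set T := (par F).image fun r => opA r.2.2 (opH r.1 r.2.1 E) with hT
  have h1 : (par F).card ≤ e * T.card :=
    Finset.card_le_mul_card_image _ e fun b hb => by
      obtain ⟨p, hp, rfl⟩ := Finset.mem_image.1 hb
      exact hfib p hp
  have h2 : T.card * D E ≤ SS D (fun B => B ≠ 0) := le_SS T fun B hB => by
    obtain ⟨p, hp, rfl⟩ := Finset.mem_image.1 hB
    obtain ⟨hp1, hp2, -⟩ : p.1 ≠ 0 ∧ p.2.1 ≠ 0 ∧ True := by
      simp only [par, Finset.mem_product, Finset.mem_filter, Finset.mem_univ, true_and, and_true] at hp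
      exact ⟨hp.1, hp.2, trivial⟩
    refine ⟨fun h => hE ?_, by rw [hW.hA, hW.hH _ _ hp1 hp2]⟩
    refine opH_inj hp1 hp2 (opA_inj p.2.2 (h.trans ?_))
    funext S; fin_cases S <;> simp [opA, opH]
  calc (par F).card * D E ≤ e * T.card * D E := Nat.mul_le_mul_right _ h1
    _ = e * (T.card * D E) := mul_assoc _ _ _
    _ ≤ _ := Nat.mul_le_mul_left _ h2

/-- A simple and a double root. -/
theorem Wt.linear_case (hW : Wt D) {l : F} (hl : l ≠ 0) :
    2 * ((Fintype.card F - 1) * Fintype.card F) * D ![0, l, 0, 0] ≤ SS D (fun B => B ≠ 0) := by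
  classical
  obtain ⟨c, hc, hR⟩ := hW.hR
  have hlin : ∀ m : F, m ≠ 0 → D ![0, m, 0, 0] = D ![0, l, 0, 0] := fun m hm => by
    rw [← hW.hH 1 (m / l) one_ne_zero (div_ne_zero hm hl) ![0, l, 0, 0]]
    congr 1
    funext S; fin_cases S <;> simp [opH, hl]
  have hquad : ∀ m : F, m ≠ 0 → D ![0, 0, m, 0] = D ![0, l, 0, 0] := fun m hm => by
    have hm' : m / c 2 ≠ 0 := div_ne_zero hm (hc 2)
    rw [← hlin _ hm', ← hR ![0, m / c 2, 0, 0]]
    congr 1
    funext S; fin_cases S <;> simp [opR, hc] <;> field_simp [hc]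
  set P := (Finset.univ.filter fun x : F => x ≠ 0) ×ˢ (Finset.univ : Finset F) with hP
  set T1 := P.image fun r : F × F => opA r.2 ![0, r.1, 0, 0] with hT1
  set T2 := P.image fun r : F × F => opA r.2 ![0, 0, r.1, 0] with hT2
  have hcard : P.card = (Fintype.card F - 1) * Fintype.card F := by
    rw [hP, Finset.card_product, Finset.filter_ne', Finset.card_erase_of_mem (Finset.mem_univ _),
      Finset.card_univ]
  have hmemP : ∀ r ∈ P, r.1 ≠ 0 := fun r hr => by
    simp only [hP, Finset.mem_product, Finset.mem_filter, Finset.mem_univ, true_and, and_true] at hr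
    exact hr
  have c1 : T1.card = P.card := Finset.card_image_of_injOn fun r hr r' hr' h => by
    have h0 := congrFun h 0
    have h1 := congrFun h 1
    simp [opA] at h0 h1
    rw [← h1] at h0
    exact Prod.ext h1 (mul_right_cancel₀ (hmemP r hr) h0)
  have c2 : T2.card = P.card := Finset.card_image_of_injOn fun r hr r' hr' h => by
    have h0 := congrFun h 0
    have h1 := congrFun h 1
    have h2 := congrFun h 2
    simp [opA] at h0 h1 h2
    rw [← h2] at h0 h1
    refine Prod.ext h2 ?_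
    have hne := hmemP r hr
    have e0 : r.2 ^ 2 = r'.2 ^ 2 := mul_right_cancel₀ hne h0
    have e1 : 2 * r.2 = 2 * r'.2 := mul_right_cancel₀ hne h1
    have : (r.2 - r'.2) ^ 2 = 0 := by linear_combination e0 - r'.2 * e1
    exact sub_eq_zero.1 (pow_eq_zero_iff two_ne_zero |>.1 this)
  have hdis : Disjoint T1 T2 := by
    rw [Finset.disjoint_left]
    rintro B hB hB'
    obtain ⟨r, -, rfl⟩ := Finset.mem_image.1 hB
    obtain ⟨r', hr', he⟩ := Finset.mem_image.1 hB'
    have h2 := congrFun he 2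
    simp [opA] at h2
    exact hmemP r' hr' h2
  rw [two_mul, ← hcard]
  nth_rewrite 1 [← c1]
  rw [← c2, ← Finset.card_union_of_disjoint hdis]
  refine le_SS _ fun B hB => ?_
  rcases Finset.mem_union.1 hB with h | h <;> obtain ⟨r, hr, rfl⟩ := Finset.mem_image.1 h
  · refine ⟨fun h0 => hmemP r hr ?_, by rw [hW.hA, hlin _ (hmemP r hr)]⟩
    have := congrFun h0 1
    simpa [opA] using this
  · refine ⟨fun h0 => hmemP r hr ?_, by rw [hW.hA, hquad _ (hmemP r hr)]⟩
    have := congrFun h0 2
    simpa [opA] using this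

/-- A quadratic with two distinct or no finite roots. -/
theorem Wt.quad_case (hW : Wt D) {E : Fin 4 → F} (h2 : E 2 ≠ 0) (h3 : E 3 = 0)
    (h : (E 1 = 0 ∧ (2 : F) ≠ 0 ∧ E 0 ≠ 0) ∨ ((2 : F) = 0 ∧ E 1 ≠ 0)) :
    (Fintype.card F - 1) * ((Fintype.card F - 1) * Fintype.card F) * D E ≤
      2 * SS D (fun B => B ≠ 0) := by
  classical
  refine hW.orbit_bound (fun h0 => h2 (by rw [h0]; rfl)) fun p hp => ?_
  obtain ⟨p1, p2, s⟩ := p
  simp only [par, Finset.mem_product, Finset.mem_filter, Finset.mem_univ, true_and, and_true] at hp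
  obtain ⟨hp1, hp2⟩ := hp
  refine le_trans (Finset.card_le_card (t := if E 1 = 0 then {(p1, p2, s), (p1, -p2, s)} else
    {(p1, p2, s), (p1, p2, s + p2 / p1 * E 1 / (p1 * E 2))}) ?_) (by split_ifs <;> exact Finset.card_le_two)
  rintro ⟨a, b, t⟩ hr
  simp only [par, Finset.mem_filter, Finset.mem_product, Finset.mem_univ, true_and, and_true] at hr
  obtain ⟨⟨ha, hb⟩, he⟩ := hr
  have e0 := congrFun he 0
  have e1 := congrFun he 1
  have e2 := congrFun he 2
  simp [opA, opH, h3] at e0 e1 e2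
  have ea : a = p1 := e2.resolve_right h2
  subst ea
  rcases h with ⟨h1, htwo, h0⟩ | ⟨htwo, h1⟩
  · rw [if_pos h1]
    simp only [h1, mul_zero, add_zero, sub_zero, zero_sub] at e0 e1
    have et : t = s := by
      have h' : (2 * (a * E 2)) * (t - s) = 0 := by linear_combination -e1
      exact sub_eq_zero.1 ((mul_eq_zero.1 h').resolve_left
        (mul_ne_zero htwo (mul_ne_zero ha h2)))
    subst et
    have h' : b ^ 2 / a ^ 3 * E 0 = p2 ^ 2 / a ^ 3 * E 0 := by linear_combination e0
    have h'' : b ^ 2 = p2 ^ 2 := by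
      have := mul_right_cancel₀ h0 h'
      rwa [div_left_inj' (pow_ne_zero _ ha)] at this
    rcases sq_eq_sq_iff_eq_or_eq_neg.1 h'' with rfl | rfl <;> simp
  · rw [if_neg h1]
    simp only [htwo, zero_mul, sub_zero] at e1
    have eb : b = p2 := by
      have := mul_right_cancel₀ h1 (show b / a * E 1 = p2 / a * E 1 from e1)
      rwa [div_left_inj' ha] at this
    subst eb
    have h' : (t - s) * ((t + s) * (a * E 2) - b / a * E 1) = 0 := by linear_combination e0
    rcases mul_eq_zero.1 h' with h' | h'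
    · rw [sub_eq_zero.1 h']; simp
    · have : t = s + b / a * E 1 / (a * E 2) := by
        field_simp at h' ⊢
        linear_combination h' - s * a ^ 2 * E 2 * htwo
      rw [this]; simp

/-- A cubic without roots. -/
theorem Wt.cubic_case (hW : Wt D) {E : Fin 4 → F} (hthree : (3 : F) ≠ 0) (h2 : E 2 = 0)
    (h3 : E 3 ≠ 0) (h0 : E 0 ≠ 0) {e : ℕ}
    (he : ∀ c : F, (Finset.univ.filter fun x : F => x ^ 3 = c).card ≤ e) :
    (Fintype.card F - 1) * ((Fintype.card F - 1) * Fintype.card F) * D E ≤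
      e * SS D (fun B => B ≠ 0) := by
  classical
  refine hW.orbit_bound (fun hE => h3 (by rw [hE]; rfl)) fun p hp => ?_
  obtain ⟨p1, p2, s⟩ := p
  simp only [par, Finset.mem_product, Finset.mem_filter, Finset.mem_univ, true_and, and_true] at hp
  obtain ⟨hp1, hp2⟩ := hp
  refine le_trans (Finset.card_le_card (t := (Finset.univ.filter fun x : F => x ^ 3 = p1 ^ 3).image
    fun x => (x, p2, s)) ?_) (Finset.card_image_le.trans (he _))
  rintro ⟨a, b, t⟩ hr
  simp only [par, Finset.mem_filter, Finset.mem_product, Finset.mem_univ, true_and, and_true] at hr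
  obtain ⟨⟨ha, hb⟩, heq⟩ := hr
  have e0 := congrFun heq 0
  have e1 := congrFun heq 1
  have e2 := congrFun heq 2
  have e3 := congrFun heq 3
  simp [opA, opH, h2] at e0 e1 e2 e3
  have hX : a ^ 3 / b = p1 ^ 3 / p2 := e3.resolve_right h3
  rw [hX] at e0 e1 e2
  have hne : p1 ^ 3 / p2 * E 3 ≠ 0 := mul_ne_zero (div_ne_zero (pow_ne_zero _ hp1) hp2) h3
  have et : t = s := by
    have h' : (3 * (p1 ^ 3 / p2 * E 3)) * (t - s) = 0 := by linear_combination e2
    exact sub_eq_zero.1 ((mul_eq_zero.1 h').resolve_left (mul_ne_zero hthree hne))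
  subst et
  have e0' : b ^ 2 / a ^ 3 * E 0 = p2 ^ 2 / p1 ^ 3 * E 0 := by linear_combination e0 + t * e1
  have hY := mul_right_cancel₀ h0 e0'
  have eb : b = p2 := by
    have : (a ^ 3 / b) * (b ^ 2 / a ^ 3) = (p1 ^ 3 / p2) * (p2 ^ 2 / p1 ^ 3) := by rw [hX, hY]
    field_simp at this
    exact this
  subst eb
  rw [div_left_inj' hb] at hX
  exact Finset.mem_image.2 ⟨a, Finset.mem_filter.2 ⟨Finset.mem_univ _, hX⟩, rfl⟩

/-- A cubic that is not a cube has a large orbit. -/
theorem Wt.orbit_large (hW : Wt D) (h3 : Fintype.card F % 3 ≠ 0) (h5 : 5 ≤ Fintype.card F)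
    (hthree : (3 : F) ≠ 0) {B : Fin 4 → F} (hB : B ≠ 0) (hc : ¬ IsCube B) (hd : 0 < D B) :
    (Fintype.card F + 1) ^ 2 ≤ SS D (fun B => B ≠ 0) := by
  classical
  set q := Fintype.card F with hqdef
  by_cases hroot : B 3 = 0 ∨ ∃ a, fev B a = 0
  · obtain ⟨C, hC3, hC12, hCd⟩ : ∃ C : Fin 4 → F, C 3 = 0 ∧ (C 1 ≠ 0 ∨ C 2 ≠ 0) ∧ D C = D B := by
      rcases hroot with h | ⟨a, ha⟩
      · refine ⟨B, h, ?_, rfl⟩
        by_contra hcon
        push Not at hcon
        exact hc ⟨hB, Or.inl ⟨h, hcon.2, hcon.1⟩⟩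
      · obtain ⟨c, hcne, hR⟩ := hW.hR
        refine ⟨opR c (opA a B), ?_, ?_, by rw [hR, hW.hA]⟩
        · show c 3 * opA a B (3 : Fin 4).rev = 0
          rw [show opA a B (3 : Fin 4).rev = 0 from ha, mul_zero]
        · by_contra hcon
          push Not at hcon
          have h1 : c 1 * opA a B 2 = 0 := hcon.1
          have h2 : c 2 * opA a B 1 = 0 := hcon.2
          exact hc ⟨hB, Or.inr ⟨a, ha, (mul_eq_zero.1 h2).resolve_left (hcne 2),
            (mul_eq_zero.1 h1).resolve_left (hcne 1)⟩⟩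
    have hlinfin : ∀ l : F, l ≠ 0 → D ![0, l, 0, 0] = D B → (q + 1) ^ 2 ≤ SS D (fun B => B ≠ 0) := by
      intro l hl he
      refine le_trans ?_ ((Nat.le_mul_of_pos_right _ (he ▸ hd)).trans (hW.linear_case hl))
      rw [← hqdef]
      obtain ⟨n, hn⟩ : ∃ n, q = n + 5 := ⟨q - 5, by omega⟩
      rw [hn, show n + 5 - 1 = n + 4 by omega]
      nlinarith
    by_cases hC2 : C 2 = 0
    · have hC1 : C 1 ≠ 0 := hC12.resolve_right (not_not.2 hC2)
      refine hlinfin (C 1) hC1 ?_
      rw [← hCd, ← hW.hA (C 0 / C 1) C]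
      congr 1
      funext S
      fin_cases S <;> simp [opA, hC2, hC3, hC1]
    have hquadfin : ∀ E : Fin 4 → F, E 2 ≠ 0 → E 3 = 0 → D E = D B →
        ((E 1 = 0 ∧ (2 : F) ≠ 0 ∧ E 0 ≠ 0) ∨ ((2 : F) = 0 ∧ E 1 ≠ 0)) →
        (q + 1) ^ 2 ≤ SS D (fun B => B ≠ 0) := by
      intro E hE2 hE3 he hcase
      have h := (Nat.le_mul_of_pos_right _ (he ▸ hd)).trans (hW.quad_case hE2 hE3 hcase)
      rw [← hqdef] at h
      obtain ⟨n, hn⟩ : ∃ n, q = n + 5 := ⟨q - 5, by omega⟩
      rw [hn, show n + 5 - 1 = n + 4 by omega] at h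
      rw [hn]
      ring_nf at h ⊢
      linarith [Nat.zero_le (n ^ 3), Nat.zero_le (n ^ 2)]
    have hpure : ∀ m : F, m ≠ 0 → D ![0, 0, m, 0] = D B → (q + 1) ^ 2 ≤ SS D (fun B => B ≠ 0) := by
      intro m hm he
      obtain ⟨c, hcne, hR⟩ := hW.hR
      refine hlinfin (c 1 * m) (mul_ne_zero (hcne 1) hm) ?_
      rw [← he, ← hR ![0, 0, m, 0]]
      congr 1
      funext S; fin_cases S <;> simp [opR] <;> rfl
    by_cases htwo : (2 : F) = 0
    · by_cases hC1 : C 1 = 0
      · haveI : CharP F 2 := CharTwo.of_one_ne_zero_of_two_eq_zero one_ne_zero htwo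
        obtain ⟨a, ha⟩ := surjective_frobenius F 2 (C 0 / C 2)
        refine hpure (C 2) hC2 ?_
        rw [← hCd, ← hW.hA a C]
        congr 1
        funext S
        rw [frobenius_def] at ha
        fin_cases S
        · simp [opA, hC1, hC3, ha, hC2]
          linear_combination -(C 0) * htwo
        all_goals simp [opA, hC1, hC3, htwo]
      · exact hquadfin C hC2 hC3 hCd (Or.inr ⟨htwo, hC1⟩)
    · set a := C 1 / (2 * C 2) with ha
      have hE1 : opA a C 1 = 0 := by simp [opA, hC3, ha]; field_simp; ring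
      have hE2 : opA a C 2 = C 2 := by simp [opA, hC3]
      have hE3 : opA a C 3 = 0 := hC3
      by_cases hE0 : opA a C 0 = 0
      · refine hpure (C 2) hC2 ?_
        rw [← hCd, ← hW.hA a C]
        congr 1
        funext S
        fin_cases S
        exacts [hE0.symm, hE1.symm, hE2.symm, hE3.symm]
      · exact hquadfin (opA a C) (hE2 ▸ hC2) hE3 ((hW.hA a C).trans hCd) (Or.inl ⟨hE1, htwo, hE0⟩)
  · push Not at hroot
    obtain ⟨hB3, hno⟩ := hroot
    set a := -B 2 / (3 * B 3) with ha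
    have hE2 : opA a B 2 = 0 := by simp [opA, ha]; field_simp; ring
    have hmain : ∀ e : ℕ, (∀ c : F, (Finset.univ.filter fun x : F => x ^ 3 = c).card ≤ e) →
        (q - 1) * ((q - 1) * q) ≤ e * SS D (fun B => B ≠ 0) := by
      intro e he
      have hb := hW.cubic_case (E := opA a B) hthree hE2 hB3 (hno a) he
      rw [hW.hA, ← hqdef] at hb
      exact (Nat.le_mul_of_pos_right _ hd).trans hb
    obtain ⟨n, hn⟩ : ∃ n, q = n + 5 := ⟨q - 5, by omega⟩
    by_cases h2 : q % 3 = 2
    · have h := hmain 1 fun c => Finset.card_le_one.2 fun x hx y hy =>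
        cube_injective h2 ((Finset.mem_filter.1 hx).2.trans (Finset.mem_filter.1 hy).2.symm)
      rw [one_mul, hn, show n + 5 - 1 = n + 4 by omega] at h
      rw [hn]
      nlinarith
    · have h := hmain 3 (pow_fibre_le (by norm_num))
      obtain ⟨m, hm⟩ : ∃ m, n = m + 2 := ⟨n - 2, by omega⟩
      rw [hn, hm, show m + 2 + 5 - 1 = m + 6 by omega] at h
      rw [hn, hm]
      nlinarith

end Cfsg.Agent.G2Deg
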