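import Cfsg.Agent.G2Deg.Elems
import Cfsg.Agent.E6Deg.Proj
import Mathlib.GroupTheory.QuotientGroup.Basic
import Mathlib.NumberTheory.LegendreSymbol.AddCharacter

/-!
The radical, the characters of its abelian quotient and the action of the parabolic subgroup on them.
-/

set_option autoImplicit false
set_option maxRecDepth 100000

namespace Cfsg.Agent.G2Deg

open Cfsg.Lie
open Cfsg.Agent.E6Deg (lamH lamH_mul lamH_one lamH_inv_mul)

universe u

variable (F : Type u) [Field F]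

/-- The generators of the radical. -/
def gensQ : Set (Gp F) := Set.range (fun x : Fin 4 × F => xs x.1 x.2) ∪ Set.range zz

/-- The radical. -/
def HQ : Subgroup (Gp F) := Subgroup.closure (gensQ F)

variable {F}

theorem xs_mem (S : Fin 4) (u : F) : xs S u ∈ HQ F :=
  Subgroup.subset_closure (Or.inl ⟨(S, u), rfl⟩)

theorem zz_mem (v : F) : zz v ∈ HQ F := Subgroup.subset_closure (Or.inr ⟨v, rfl⟩)

theorem zz_commute_mem {g : Gp F} (hg : g ∈ HQ F) (v : F) : Commute (zz v) g := by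
  refine Subgroup.closure_induction (p := fun x _ => Commute (zz v) x) ?_ (Commute.one_right _)
    (fun _ _ _ _ h1 h2 => h1.mul_right h2) (fun _ _ h => h.inv_right) hg
  rintro _ (⟨⟨S, u⟩, rfl⟩ | ⟨w, rfl⟩)
  · exact zz_commute_xs S u v
  · show zz v * zz w = zz w * zz v
    rw [← zz_add, ← zz_add, add_comm]

/-- The highest root group in the radical. -/
noncomputable def zH : Multiplicative F →* ↥(HQ F) where
  toFun v := ⟨zz v.toAdd, zz_mem _⟩
  map_one' := Subtype.ext zz_zero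
  map_mul' a b := Subtype.ext (zz_add a.toAdd b.toAdd)

variable (F)

/-- The highest root group. -/
noncomputable def ZQ : Subgroup ↥(HQ F) := (zH (F := F)).range

instance : (ZQ F).Normal where
  conj_mem n hn g := by
    obtain ⟨v, rfl⟩ := hn
    have : g * zH v * g⁻¹ = zH v := by
      refine Subtype.ext ?_
      show (g : Gp F) * zz v.toAdd * (g : Gp F)⁻¹ = zz v.toAdd
      rw [← (zz_commute_mem g.2 _).eq, mul_inv_cancel_right]
    rw [this]
    exact ⟨v, rfl⟩

/-- The abelian quotient. -/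
abbrev QB := ↥(HQ F) ⧸ ZQ F

/-- The projection. -/
noncomputable def piQ : ↥(HQ F) →* QB F := QuotientGroup.mk' (ZQ F)

variable {F}

theorem piQ_surjective : Function.Surjective (piQ F) := QuotientGroup.mk'_surjective _

theorem piQ_zz (v : F) : piQ F ⟨zz v, zz_mem v⟩ = 1 :=
  (QuotientGroup.eq_one_iff _).2 ⟨Multiplicative.ofAdd v, rfl⟩

/-- Membership in the highest root group. -/
def InZ (g : Gp F) : Prop := ∃ v, g = zz v

theorem word_inZ : ∀ l : List (ℕ × F), (∀ x ∈ l, x.1 = 11) → InZ (word l)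
  | [], _ => ⟨0, zz_zero.symm⟩
  | x :: l, h => by
    obtain ⟨v, hv⟩ := word_inZ l fun y hy => h y (List.mem_cons_of_mem _ hy)
    refine ⟨x.2 + v, ?_⟩
    rw [zz_add, ← hv]
    show xx x.1 x.2 * word l = xx 11 x.2 * word l
    rw [h x List.mem_cons_self]

theorem xs_mul_comm (S S' : Fin 4) (u v : F) :
    ∃ w, xs S' v * xs S u = xs S u * xs S' v * zz w := by
  by_cases h : S = S'
  · subst h
    exact ⟨0, by rw [zz_zero, mul_one, ← xs_add, ← xs_add, add_comm]⟩
  · obtain ⟨hn, hne, hterms⟩ := chk_QQ S S' h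
    obtain ⟨w, hw⟩ := word_inZ (chevG2.commWord F (rQ S) (rQ S') u v) fun x hx => by
      obtain ⟨c, hc, rfl⟩ := List.mem_map.1 hx
      exact hterms c hc
    exact ⟨w, by rw [← hw]; exact xx_comm (rQ_lt S) (rQ_lt S') hne.symm hn u v⟩

theorem radical_induction {P : ↥(HQ F) → Prop} (hx : ∀ S u, P ⟨xs S u, xs_mem S u⟩)
    (hz : ∀ v, P ⟨zz v, zz_mem v⟩) (h1 : P 1) (hm : ∀ a b, P a → P b → P (a * b))
    (hi : ∀ a, P a → P a⁻¹) (h : ↥(HQ F)) : P h := by
  obtain ⟨g, hg⟩ := h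
  refine Subgroup.closure_induction (p := fun x hx => P ⟨x, hx⟩) ?_ h1
    (fun x y hx hy => hm ⟨x, hx⟩ ⟨y, hy⟩) (fun x hx => hi ⟨x, hx⟩) hg
  rintro _ (⟨⟨S, u⟩, rfl⟩ | ⟨w, rfl⟩)
  exacts [hx S u, hz w]

theorem piQ_comm (a b : ↥(HQ F)) : Commute (piQ F a) (piQ F b) := by
  induction a using radical_induction with
  | hz v => rw [piQ_zz]; exact Commute.one_left _
  | h1 => rw [map_one]; exact Commute.one_left _
  | hm x y hx hy => rw [map_mul]; exact hx.mul_left hy
  | hi x hx => rw [map_inv]; exact hx.inv_left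
  | hx S u =>
    induction b using radical_induction with
    | hz v => rw [piQ_zz]; exact Commute.one_right _
    | h1 => rw [map_one]; exact Commute.one_right _
    | hm x y hx hy => rw [map_mul]; exact hx.mul_right hy
    | hi x hx => rw [map_inv]; exact hx.inv_right
    | hx S' v =>
      obtain ⟨w, hw⟩ := xs_mul_comm S S' u v
      have e : (⟨xs S' v, xs_mem _ _⟩ : ↥(HQ F)) * ⟨xs S u, xs_mem _ _⟩ =
          ⟨xs S u, xs_mem _ _⟩ * ⟨xs S' v, xs_mem _ _⟩ * ⟨zz w, zz_mem _⟩ := Subtype.ext hw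
      show piQ F _ * piQ F _ = piQ F _ * piQ F _
      rw [← map_mul (piQ F) ⟨xs S' v, _⟩, e, map_mul, piQ_zz, mul_one, map_mul]

noncomputable instance : CommGroup (QB F) :=
  { (inferInstance : Group (QB F)) with
    mul_comm := fun a b => by
      obtain ⟨x, rfl⟩ := piQ_surjective a
      obtain ⟨y, rfl⟩ := piQ_surjective b
      exact piQ_comm x y }

variable [Fintype F]

theorem exists_psi : ∃ ψ : AddChar F ℂ, ψ.IsPrimitive := by
  obtain ⟨ψ, hψ⟩ : ∃ ψ : AddChar F ℂ, ψ 1 ≠ 1 := AddChar.exists_apply_ne_zero.2 one_ne_zero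
  exact ⟨ψ, AddChar.IsPrimitive.of_ne_one fun h => hψ (by rw [h, AddChar.one_apply])⟩

variable (F)

/-- A fixed primitive character of the field. -/
noncomputable def psi : AddChar F ℂ := exists_psi.choose

theorem psi_prim : (psi F).IsPrimitive := exists_psi.choose_spec

variable {F}

theorem sum_psi [DecidableEq F] (b : F) :
    ∑ u, psi F (b * u) = if b = 0 then (Fintype.card F : ℂ) else 0 := by
  have h := AddChar.sum_mulShift (R' := ℂ) b (psi_prim F)
  rw [Finset.sum_congr rfl fun u _ => by rw [mul_comm], h]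
  split_ifs <;> simp

/-- The characters of the radical. -/
abbrev Chi (F : Type u) [Field F] := AddChar (Additive (QB F)) ℂ

/-- The value of a character at a root element. -/
noncomputable def lamX (Λ : Chi F) (S : Fin 4) : AddChar F ℂ where
  toFun u := lamH (piQ F) Λ ⟨xs S u, xs_mem S u⟩
  map_zero_eq_one' := by
    rw [show (⟨xs S (0 : F), xs_mem S 0⟩ : ↥(HQ F)) = 1 from Subtype.ext (xs_zero S), lamH_one]
  map_add_eq_mul' a b := by
    rw [← lamH_mul]
    congr 1
    exact Subtype.ext (xs_add S a b)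

theorem exists_coord (Λ : Chi F) (S : Fin 4) :
    ∃ B : F, ∀ u, lamH (piQ F) Λ ⟨xs S u, xs_mem S u⟩ = psi F (B * u) := by
  obtain ⟨B, hB⟩ := ((Fintype.bijective_iff_injective_and_card _).2
    ⟨AddChar.to_mulShift_inj_of_isPrimitive (psi_prim F), AddChar.card_eq.symm⟩).2 (lamX Λ S)
  refine ⟨B, fun u => ?_⟩
  have h := DFunLike.congr_fun hB u
  rw [AddChar.mulShift_apply] at h
  exact h.symm

/-- The coordinates of a character. -/
noncomputable def BQ (Λ : Chi F) : Fin 4 → F := fun S => (exists_coord Λ S).choose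

theorem BQ_spec (Λ : Chi F) (S : Fin 4) (u : F) :
    lamH (piQ F) Λ ⟨xs S u, xs_mem S u⟩ = psi F (BQ Λ S * u) :=
  (exists_coord Λ S).choose_spec u

theorem BQ_eq {Λ : Chi F} {S : Fin 4} {b : F}
    (h : ∀ u, lamH (piQ F) Λ ⟨xs S u, xs_mem S u⟩ = psi F (b * u)) : BQ Λ S = b := by
  refine AddChar.to_mulShift_inj_of_isPrimitive (psi_prim F) (DFunLike.ext _ _ fun u => ?_)
  rw [AddChar.mulShift_apply, AddChar.mulShift_apply, ← BQ_spec, h]

theorem lam_zz (Λ : Chi F) (v : F) : lamH (piQ F) Λ ⟨zz v, zz_mem v⟩ = 1 := by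
  rw [lamH, piQ_zz, ofMul_one, AddChar.map_zero_eq_one]

theorem BQ_injective : Function.Injective (BQ : Chi F → Fin 4 → F) := by
  intro Λ Λ' h
  refine DFunLike.ext _ _ fun a => ?_
  obtain ⟨x, hx⟩ := piQ_surjective a.toMul
  have : lamH (piQ F) Λ x = lamH (piQ F) Λ' x := by
    induction x using radical_induction generalizing a with
    | hx S u => rw [BQ_spec, BQ_spec, h]
    | hz v => rw [lam_zz, lam_zz]
    | h1 => rw [lamH_one, lamH_one]
    | hm x y ih1 ih2 =>
      rw [lamH_mul, lamH_mul, ih1 (Additive.ofMul (piQ F x)) rfl, ih2 (Additive.ofMul (piQ F y)) rfl]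
    | hi x ih =>
      have e := ih (Additive.ofMul (piQ F x)) rfl
      have h1 := lamH_inv_mul (piQ F) Λ x
      have h2 := lamH_inv_mul (piQ F) Λ' x
      rw [e] at h1
      exact mul_right_cancel₀ (right_ne_zero_of_mul_eq_one h2) (h1.trans h2.symm)
  simpa only [lamH, hx, ofMul_toMul] using this

theorem BQ_zero : BQ (0 : Chi F) = 0 := funext fun S => BQ_eq fun u => by
  rw [lamH, Pi.zero_apply, zero_mul, AddChar.map_zero_eq_one, AddChar.zero_apply]

theorem BQ_eq_zero {Λ : Chi F} (h : BQ Λ = 0) : Λ = 0 := BQ_injective (h.trans BQ_zero.symm)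

/-! ### Conjugation -/

omit [Fintype F] in
/-- An element normalising the radical and the highest root group. -/
def Nrm (g : Gp F) : Prop := (∀ h ∈ HQ F, g * h * g⁻¹ ∈ HQ F) ∧ ∀ v, InZ (g * zz v * g⁻¹)

omit [Fintype F] in
theorem nrm_of_gens {g : Gp F} (hx : ∀ S u, g * xs S u * g⁻¹ ∈ HQ F)
    (hz : ∀ v, InZ (g * zz v * g⁻¹)) : Nrm g := by
  refine ⟨fun h hh => ?_, hz⟩
  refine Subgroup.closure_induction (p := fun x _ => g * x * g⁻¹ ∈ HQ F) ?_ ?_ ?_ ?_ hh
  · rintro _ (⟨⟨S, u⟩, rfl⟩ | ⟨w, rfl⟩)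
    · exact hx S u
    · obtain ⟨v, hv⟩ := hz w
      rw [hv]
      exact zz_mem v
  · rw [mul_one, mul_inv_cancel]; exact one_mem _
  · intro x y _ _ hx hy
    rw [show g * (x * y) * g⁻¹ = (g * x * g⁻¹) * (g * y * g⁻¹) by group]
    exact mul_mem hx hy
  · intro x _ hx
    rw [show g * x⁻¹ * g⁻¹ = (g * x * g⁻¹)⁻¹ by group]
    exact inv_mem hx

omit [Fintype F] in
/-- Conjugation on the radical. -/
noncomputable def conjH {g : Gp F} (hg : Nrm g) : ↥(HQ F) →* ↥(HQ F) where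
  toFun h := ⟨g * h * g⁻¹, hg.1 _ h.2⟩
  map_one' := Subtype.ext (by simp)
  map_mul' a b := Subtype.ext (by simp [mul_assoc])

/-- Conjugation on the radical, as a bijection. -/
noncomputable def conjE {g : Gp F} (hg : Nrm g) : ↥(HQ F) ≃ ↥(HQ F) :=
  haveI : Finite (Gp F) := inferInstance
  Equiv.ofBijective (conjH hg) (Finite.injective_iff_bijective.1 fun a b h => Subtype.ext
    (mul_left_cancel (mul_right_cancel (congrArg Subtype.val h))))

theorem conjE_val {g : Gp F} (hg : Nrm g) (h : ↥(HQ F)) : (conjE hg h : Gp F) = g * h * g⁻¹ := rfl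

omit [Fintype F] in
theorem zQ_le {g : Gp F} (hg : Nrm g) : ZQ F ≤ (ZQ F).comap (conjH hg) := by
  rintro _ ⟨v, rfl⟩
  obtain ⟨w, hw⟩ := hg.2 v.toAdd
  exact ⟨Multiplicative.ofAdd w, Subtype.ext hw.symm⟩

/-- The transformed character. -/
noncomputable def actL {g : Gp F} (hg : Nrm g) (Λ : Chi F) : Chi F :=
  Λ.compAddMonoidHom (QuotientGroup.map (ZQ F) (ZQ F) (conjH hg) (zQ_le hg)).toAdditive

theorem lamH_actL {g : Gp F} (hg : Nrm g) (Λ : Chi F) (h : ↥(HQ F)) :
    lamH (piQ F) (actL hg Λ) h = lamH (piQ F) Λ (conjE hg h) := rfl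

theorem actL_injective {g : Gp F} (hg : Nrm g) :
    Function.Injective (actL hg : Chi F → Chi F) := by
  intro Λ Λ' h
  refine DFunLike.ext _ _ fun a => ?_
  obtain ⟨x, hx⟩ := piQ_surjective a.toMul
  have h1 := congrArg (fun Ξ => lamH (piQ F) Ξ ((conjE hg).symm x)) h
  simp only [lamH_actL, Equiv.apply_symm_apply] at h1
  simpa only [lamH, hx, ofMul_toMul] using h1

/-- The value of a coordinate element of an index and a parameter. -/
noncomputable def valQ (B : Fin 4 → F) (x : ℕ × F) : F :=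
  if x.1 = 6 then B 0 * x.2 else if x.1 = 8 then B 1 * x.2 else if x.1 = 9 then B 2 * x.2 else
    if x.1 = 10 then B 3 * x.2 else 0

theorem lam_word (Λ : Chi F) : ∀ l : List (ℕ × F),
    (∀ x ∈ l, x.1 = 6 ∨ x.1 = 8 ∨ x.1 = 9 ∨ x.1 = 10 ∨ x.1 = 11) →
    ∃ h : word l ∈ HQ F, lamH (piQ F) Λ ⟨word l, h⟩ = psi F ((l.map (valQ (BQ Λ))).sum)
  | [], _ => ⟨one_mem _, by
    show lamH (piQ F) Λ (1 : ↥(HQ F)) = _
    rw [lamH_one, List.map_nil, List.sum_nil, AddChar.map_zero_eq_one]⟩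
  | x :: l, h => by
    obtain ⟨hm, he⟩ := lam_word Λ l fun y hy => h y (List.mem_cons_of_mem _ hy)
    have hx : ∃ hm : xx x.1 x.2 ∈ HQ F,
        lamH (piQ F) Λ ⟨xx x.1 x.2, hm⟩ = psi F (valQ (BQ Λ) x) := by
      obtain ⟨r, t⟩ := x
      rcases h (r, t) List.mem_cons_self with e | e | e | e | e <;> obtain rfl : r = _ := e
      · exact ⟨xs_mem 0 t, by rw [valQ, if_pos rfl]; exact BQ_spec Λ 0 t⟩
      · exact ⟨xs_mem 1 t, by simp only [valQ]; norm_num; exact BQ_spec Λ 1 t⟩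
      · exact ⟨xs_mem 2 t, by simp only [valQ]; norm_num; exact BQ_spec Λ 2 t⟩
      · exact ⟨xs_mem 3 t, by simp only [valQ]; norm_num; exact BQ_spec Λ 3 t⟩
      · exact ⟨zz_mem t, by simp only [valQ]; norm_num; exact lam_zz Λ t⟩
    obtain ⟨hxm, hxe⟩ := hx
    refine ⟨mul_mem hxm hm, ?_⟩
    show lamH (piQ F) Λ (⟨xx x.1 x.2, hxm⟩ * ⟨word l, hm⟩) = _
    rw [lamH_mul, hxe, he, List.map_cons, List.sum_cons, AddChar.map_add_eq_mul]

theorem BQ_actL {g : Gp F} (hg : Nrm g) (Λ : Chi F) (S : Fin 4) (b : F)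
    (l : F → List (ℕ × F))
    (hl : ∀ u, ∀ x ∈ l u, x.1 = 6 ∨ x.1 = 8 ∨ x.1 = 9 ∨ x.1 = 10 ∨ x.1 = 11)
    (hw : ∀ u, g * xs S u * g⁻¹ = word (l u))
    (hb : ∀ u, ((l u).map (valQ (BQ Λ))).sum = b * u) : BQ (actL hg Λ) S = b := by
  refine BQ_eq fun u => ?_
  obtain ⟨hm, he⟩ := lam_word Λ (l u) (hl u)
  rw [lamH_actL, ← hb u, ← he]
  congr 1
  exact Subtype.ext (hw u)

end Cfsg.Agent.G2Deg
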