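import Cfsg.Agent.G2Deg.Sums
import Cfsg.Agent.G2Deg.Away
import Cfsg.Agent.D4Deg.Fourier
import Mathlib.FieldTheory.Perfect

/-!
The centre of the radical in characteristic three.
-/

set_option autoImplicit false
set_option maxRecDepth 100000
set_option maxHeartbeats 1000000

namespace Cfsg.Agent.G2Deg

open Cfsg.Lie Cfsg.Agent.Chev

universe u

variable {F : Type u} [Field F]

/-- The centre of the radical, parametrised. -/
noncomputable def ez (a : F × F × F) : Gp F := xs 1 a.1 * xs 2 a.2.1 * zz a.2.2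

theorem ez_add (h3 : (3 : F) = 0) (a b : F × F × F) : ez (a + b) = ez a * ez b := by
  unfold ez
  simp only [Prod.fst_add, Prod.snd_add, xs_add, zz_add]
  have c1 : Commute (xs 2 a.2.1) (xs 1 b.1) := xs_commute_three h3 _ _
  have c2 : Commute (zz a.2.2) (xs 1 b.1 * xs 2 b.2.1) :=
    (zz_commute_xs 1 _ _).mul_right (zz_commute_xs 2 _ _)
  rw [c2.mul_mul_mul_comm, c1.mul_mul_mul_comm]

theorem ez_zero : ez (0 : F × F × F) = 1 := by
  simp [ez, xs_zero, zz_zero]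

theorem conj_seven (s : F) (S : Fin 4) (u : F) :
    xx 7 s * xs S u * (xx 7 s)⁻¹ = word (conjWord 7 s S u) :=
  conjWord_eq (r := 7) (Or.inl rfl) s S u

theorem conj_four (s : F) (S : Fin 4) (u : F) :
    xx 4 s * xs S u * (xx 4 s)⁻¹ = word (conjWord 4 s S u) :=
  conjWord_eq (r := 4) (Or.inr rfl) s S u

/-- The pairing with coefficients. -/
def dot (c a : F × F × F) : F := c.1 * a.1 + c.2.1 * a.2.1 + c.2.2 * a.2.2

theorem dot_add (c a b : F × F × F) : dot c (a + b) = dot c a + dot c b := by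
  simp only [dot, Prod.fst_add, Prod.snd_add]; ring

theorem hh_ez (a b : Fˣ) (t : F × F × F) :
    hh a b * ez t * (hh a b)⁻¹ =
      ez ((b : F) / (a : F) * t.1, (a : F) * t.2.1, (b : F) * t.2.2) := by
  unfold ez
  rw [show hh a b * (xs 1 t.1 * xs 2 t.2.1 * zz t.2.2) * (hh a b)⁻¹ =
    (hh a b * xs 1 t.1 * (hh a b)⁻¹) * (hh a b * xs 2 t.2.1 * (hh a b)⁻¹) *
      (hh a b * zz t.2.2 * (hh a b)⁻¹) by group, hh_xs, hh_xs, hh_zz]
  rfl

theorem seven_ez (h3 : (3 : F) = 0) (s : F) (t : F × F × F) :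
    xx 7 s * ez t * (xx 7 s)⁻¹ = ez (t.1, t.2.1 - 2 * s * t.1, t.2.2) := by
  obtain ⟨-, h8, h9, -⟩ := chk_seven
  have hn3 : ((-3 : ℤ) : F) = 0 := by push_cast; rw [h3, neg_zero]
  have hp3 : ((3 : ℤ) : F) = 0 := by push_cast; exact h3
  have e1 : xx 7 s * xs 1 t.1 * (xx 7 s)⁻¹ = xs 1 t.1 * xs 2 (-(2 * s * t.1)) := by
    rw [conj_seven]
    simp [conjWord, ChevalleyDatum.commWord, rQ, h8, word, h3, hn3, hp3, xx_zero, xs]
  have e2 : xx 7 s * xs 2 t.2.1 * (xx 7 s)⁻¹ = xs 2 t.2.1 := by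
    rw [conj_seven]
    simp [conjWord, ChevalleyDatum.commWord, rQ, h9, word, h3, hn3, hp3, xx_zero, xs]
  have e3 : xx 7 s * zz t.2.2 * (xx 7 s)⁻¹ = zz t.2.2 := by
    have hc : Commute (xx 7 s : Gp F) (zz t.2.2) := zz_commute_levi (r := 7) (Or.inl rfl) s _
    rw [hc.eq, mul_inv_cancel_right]
  unfold ez
  rw [show xx 7 s * (xs 1 t.1 * xs 2 t.2.1 * zz t.2.2) * (xx 7 s)⁻¹ =
    (xx 7 s * xs 1 t.1 * (xx 7 s)⁻¹) * (xx 7 s * xs 2 t.2.1 * (xx 7 s)⁻¹) *
      (xx 7 s * zz t.2.2 * (xx 7 s)⁻¹) by group, e1, e2, e3, mul_assoc (xs 1 t.1), ← xs_add]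
  congr 3
  ring

theorem four_ez (h3 : (3 : F) = 0) (s : F) (t : F × F × F) :
    xx 4 s * ez t * (xx 4 s)⁻¹ = ez (t.1 - 2 * s * t.2.1, t.2.1, t.2.2) := by
  obtain ⟨-, h9, h8, -⟩ := chk_four
  have hn3 : ((-3 : ℤ) : F) = 0 := by push_cast; rw [h3, neg_zero]
  have hp3 : ((3 : ℤ) : F) = 0 := by push_cast; exact h3
  have e1 : xx 4 s * xs 1 t.1 * (xx 4 s)⁻¹ = xs 1 t.1 := by
    rw [conj_four]
    simp [conjWord, ChevalleyDatum.commWord, rQ, h8, word, h3, hn3, hp3, xx_zero, xs]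
  have e2 : xx 4 s * xs 2 t.2.1 * (xx 4 s)⁻¹ = xs 1 (-(2 * s * t.2.1)) * xs 2 t.2.1 := by
    rw [← (xs_commute_three h3 t.2.1 (-(2 * s * t.2.1))).eq, conj_four]
    simp [conjWord, ChevalleyDatum.commWord, rQ, h9, word, h3, hn3, hp3, xx_zero, xs]
  have e3 : xx 4 s * zz t.2.2 * (xx 4 s)⁻¹ = zz t.2.2 := by
    have hc : Commute (xx 4 s : Gp F) (zz t.2.2) := zz_commute_levi (r := 4) (Or.inr rfl) s _
    rw [hc.eq, mul_inv_cancel_right]
  unfold ez
  rw [show xx 4 s * (xs 1 t.1 * xs 2 t.2.1 * zz t.2.2) * (xx 4 s)⁻¹ =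
    (xx 4 s * xs 1 t.1 * (xx 4 s)⁻¹) * (xx 4 s * xs 2 t.2.1 * (xx 4 s)⁻¹) *
      (xx 4 s * zz t.2.2 * (xx 4 s)⁻¹) by group, e1, e2, e3, ← mul_assoc (xs 1 t.1), ← xs_add]
  congr 3
  ring

variable [Fintype F] {k : ℕ} (ρ : Representation ℂ (Gp F) (Fin k → ℂ))

/-- The multiplicity of a character of the centre, times the order of the centre. -/
noncomputable def MS (c : F × F × F) : ℂ :=
  ∑ a : F × F × F, psi F (-dot c a) * ρ.character (ez a)

theorem MS_conj {g : Gp F} {L : F × F × F → F × F × F} (hL : Function.Injective L)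
    (hg : ∀ a, g * ez a * g⁻¹ = ez (L a)) {c c' : F × F × F}
    (hc : ∀ a, dot c (L a) = dot c' a) : MS ρ c' = MS ρ c := by
  refine Fintype.sum_equiv (Equiv.ofBijective L (Finite.injective_iff_bijective.1 hL)) _ _
    fun a => ?_
  rw [Equiv.ofBijective_apply, hc, ← hg, ρ.char_conj]

theorem exists_mult (h3 : (3 : F) = 0) :
    ∃ m : F × F × F → ℕ, (∀ c, MS ρ c = (Fintype.card F : ℂ) ^ 3 * m c) ∧
      ∀ c, c.2.2 ≠ 0 → Fintype.card F ∣ m c := by
  classical
  have hex : ∀ c : F × F × F, ∃ N : ℕ, MS ρ c = (Fintype.card F : ℂ) ^ 3 * N := fun c => by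
    let ψ : AddChar (F × F × F) ℂ :=
      { toFun := fun a => psi F (-dot c a)
        map_zero_eq_one' := by simp [dot, AddChar.map_zero_eq_one]
        map_add_eq_mul' := fun a b => by rw [dot_add, neg_add, AddChar.map_add_eq_mul] }
    obtain ⟨N, hN⟩ := D4Deg.sum_twist_add ρ ez (ez_add h3) ψ
    refine ⟨N, hN.trans ?_⟩
    rw [Nat.card_eq_fintype_card, Fintype.card_prod, Fintype.card_prod]
    push_cast; ring
  choose m hm using hex
  refine ⟨m, hm, fun c hc => ?_⟩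
  set q := Fintype.card F with hqdef
  have hcom : ∀ (u : F) (a : F × F × F), Commute (xs 0 u) (ez a) := fun u a =>
    ((xs_commute_short 1 (Or.inl rfl) u a.1).1.symm.mul_right
      (xs_commute_short 2 (Or.inr rfl) u a.2.1).1.symm).mul_right (zz_commute_xs 0 u a.2.2).symm
  have hcom3 : ∀ (u : F) (a : F × F × F), Commute (xs 3 u) (ez a) := fun u a =>
    ((xs_commute_short 1 (Or.inl rfl) u a.1).2.symm.mul_right
      (xs_commute_short 2 (Or.inr rfl) u a.2.1).2.symm).mul_right (zz_commute_xs 3 u a.2.2).symm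
  let e : F × (F × F × F) → Gp F := fun p => xs 0 p.1 * ez p.2
  have hadd : ∀ p r, e (p + r) = e p * e r := fun p r => by
    show xs 0 (p.1 + r.1) * ez (p.2 + r.2) = xs 0 p.1 * ez p.2 * (xs 0 r.1 * ez r.2)
    rw [xs_add, ez_add h3, (hcom r.1 p.2).symm.mul_mul_mul_comm]
  let ψ : AddChar (F × (F × F × F)) ℂ :=
    { toFun := fun p => psi F (-dot c p.2)
      map_zero_eq_one' := by simp [dot, AddChar.map_zero_eq_one]
      map_add_eq_mul' := fun a b => by rw [Prod.snd_add, dot_add, neg_add, AddChar.map_add_eq_mul] }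
  obtain ⟨N, hN⟩ := D4Deg.sum_twist_add ρ e hadd ψ
  refine ⟨N, ?_⟩
  have hvan : ∀ u : F, u ≠ 0 →
      ∑ a : F × F × F, psi F (-dot c a) * ρ.character (xs 0 u * ez a) = 0 := by
    intro u hu
    obtain ⟨v, hv⟩ : ∃ v : F, psi F (-(c.2.2 * v)) ≠ 1 := by
      by_contra hcon
      push Not at hcon
      have h1 := sum_psi (F := F) (-c.2.2)
      rw [Finset.sum_congr rfl fun w _ => by rw [neg_mul, hcon w], if_neg (neg_ne_zero.2 hc),
        Finset.sum_const, Finset.card_univ, nsmul_eq_mul, mul_one] at h1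
      exact Nat.cast_ne_zero.2 Fintype.card_ne_zero h1
    set S := ∑ a : F × F × F, psi F (-dot c a) * ρ.character (xs 0 u * ez a) with hS
    have hshift : psi F (-(c.2.2 * v)) * S = S := by
      conv_rhs => rw [hS]
      rw [← Equiv.sum_comp (Equiv.addRight ((0, 0, v) : F × F × F)), hS, Finset.mul_sum]
      refine Finset.sum_congr rfl fun a _ => ?_
      rw [Equiv.coe_addRight, dot_add, neg_add, AddChar.map_add_eq_mul, ez_add h3, ← mul_assoc,
        mul_comm (psi F (-(c.2.2 * v))), show dot c ((0, 0, v) : F × F × F) = c.2.2 * v by simp [dot]]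
      congr 1
      have hz : ez ((0, 0, v) : F × F × F) = zz v := by simp [ez, xs_zero]
      rw [hz, ← ρ.char_conj (xs 0 u * ez a) (xs 3 (-v / u))]
      congr 1
      rw [show xs 3 (-v / u) * (xs 0 u * ez a) * (xs 3 (-v / u))⁻¹ =
        (xs 3 (-v / u) * xs 0 u * (xs 3 (-v / u))⁻¹) * (xs 3 (-v / u) * ez a * (xs 3 (-v / u))⁻¹) by
          group, xs_pair, (hcom3 _ a).eq, mul_inv_cancel_right,
        show -(-v / u * u) = v by field_simp]
      have hc2 : Commute (ez a) (zz v) := by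
        unfold ez
        refine (((zz_commute_xs 1 _ v).symm.mul_left (zz_commute_xs 2 _ v).symm)).mul_left ?_
        show zz a.2.2 * zz v = zz v * zz a.2.2
        rw [← zz_add, ← zz_add, add_comm]
      rw [mul_assoc, hc2.eq, ← mul_assoc]
    by_contra hS0
    exact hv (mul_right_cancel₀ hS0 (hshift.trans (one_mul S).symm))
  have h0 : ∑ p : F × (F × F × F), ψ p * ρ.character (e p) = MS ρ c := by
    rw [Fintype.sum_prod_type]
    show ∑ u, ∑ a, psi F (-dot c a) * ρ.character (xs 0 u * ez a) = _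
    rw [← Finset.add_sum_erase _ _ (Finset.mem_univ (0 : F)),
      Finset.sum_eq_zero fun u hu => hvan u (Finset.ne_of_mem_erase hu), add_zero]
    refine Finset.sum_congr rfl fun a _ => ?_
    show psi F (-dot c a) * ρ.character (xs 0 (0 : F) * ez a) = _
    rw [xs_zero, one_mul]
  rw [h0, hm, Nat.card_eq_fintype_card, Fintype.card_prod, Fintype.card_prod, Fintype.card_prod] at hN
  refine Nat.eq_of_mul_eq_mul_left (pow_pos Fintype.card_pos 3 : 0 < q ^ 3) ?_
  have : ((q ^ 3 * m c : ℕ) : ℂ) = ((q ^ 3 * (q * N) : ℕ) : ℂ) := by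
    push_cast at hN ⊢
    linear_combination hN
  exact_mod_cast this

variable [DecidableEq F]

/-- The statistics of the centre. -/
theorem stats (h3 : (3 : F) = 0) :
    ∃ W m₀ m₁ : ℕ,
      ∑ u, ρ.character (xs 2 u) = (Fintype.card F : ℂ) * W ∧
      k = ww ρ + (Fintype.card F - 1) *
        (Fintype.card F * (m₀ + (Fintype.card F ^ 2 - 1) * m₁)) ∧
      W = SS (mult ρ) (fun B => B 2 = 0) + (Fintype.card F - 1) *
        (Fintype.card F * (m₀ + (Fintype.card F - 1) * m₁)) := by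
  classical
  obtain ⟨m, hm, hdvd⟩ := exists_mult ρ h3
  set q := Fintype.card F with hqdef
  have hq : (q : ℂ) ≠ 0 := Nat.cast_ne_zero.2 Fintype.card_ne_zero
  have htwo : (2 : F) ≠ 0 := fun h2 => one_ne_zero (α := F) (by linear_combination h3 - h2)
  have hconst : ∀ c c', MS ρ c = MS ρ c' → m c = m c' := fun c c' h => by
    rw [hm, hm] at h
    exact_mod_cast mul_left_cancel₀ (pow_ne_zero 3 hq) h
  have hT : ∀ (a b : Fˣ) (c : F × F × F),
      m ((b : F) / (a : F) * c.1, (a : F) * c.2.1, (b : F) * c.2.2) = m c := fun a b c => by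
    refine hconst _ _ (MS_conj ρ (g := hh a b)
      (L := fun t => ((b : F) / (a : F) * t.1, (a : F) * t.2.1, (b : F) * t.2.2)) ?_ (hh_ez a b) ?_)
    · intro x y h
      simp only [Prod.mk.injEq] at h
      obtain ⟨e1, e2, e3⟩ := h
      exact Prod.ext (mul_left_cancel₀ (div_ne_zero b.ne_zero a.ne_zero) e1)
        (Prod.ext (mul_left_cancel₀ a.ne_zero e2) (mul_left_cancel₀ b.ne_zero e3))
    · intro t; simp only [dot]; ring
  have hS7 : ∀ (s : F) (c : F × F × F), m (c.1 - 2 * s * c.2.1, c.2.1, c.2.2) = m c :=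
    fun s c => by
      refine hconst _ _ (MS_conj ρ (g := xx 7 s)
        (L := fun t => (t.1, t.2.1 - 2 * s * t.1, t.2.2)) ?_ (seven_ez h3 s) ?_)
      · intro x y h
        simp only [Prod.mk.injEq] at h
        obtain ⟨e1, e2, e3⟩ := h
        rw [e1] at e2
        exact Prod.ext e1 (Prod.ext (sub_left_inj.1 e2) e3)
      · intro t; simp only [dot]; ring
  have hS4 : ∀ (s : F) (c : F × F × F), m (c.1, c.2.1 - 2 * s * c.1, c.2.2) = m c :=
    fun s c => by
      refine hconst _ _ (MS_conj ρ (g := xx 4 s)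
        (L := fun t => (t.1 - 2 * s * t.2.1, t.2.1, t.2.2)) ?_ (four_ez h3 s) ?_)
      · intro x y h
        simp only [Prod.mk.injEq] at h
        obtain ⟨e1, e2, e3⟩ := h
        rw [e2] at e1
        exact Prod.ext (sub_left_inj.1 e1) (Prod.ext e2 e3)
      · intro t; simp only [dot]; ring
  obtain ⟨m₀, hm₀⟩ := hdvd ((0, 0, 1) : F × F × F) one_ne_zero
  obtain ⟨m₁, hm₁⟩ := hdvd ((1, 0, 1) : F × F × F) one_ne_zero
  have hzero : ∀ ν : F, ν ≠ 0 → m (0, 0, ν) = q * m₀ := fun ν hν => by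
    rw [← hm₀, ← hT 1 (Units.mk0 ν hν) (0, 0, 1)]
    simp
  have hax : ∀ β ν : F, β ≠ 0 → ν ≠ 0 → m (β, 0, ν) = q * m₁ := fun β ν hβ hν => by
    rw [← hm₁, ← hT (Units.mk0 (ν / β) (div_ne_zero hν hβ)) (Units.mk0 ν hν) (1, 0, 1)]
    congr 1
    simp only [Units.val_mk0, mul_one, mul_zero, Prod.mk.injEq, and_true]
    field_simp
  have hnz : ∀ b₁ b₂ ν : F, (b₁, b₂) ≠ (0, 0) → ν ≠ 0 → m (b₁, b₂, ν) = q * m₁ := by
    have key : ∀ b₁ b₂ ν : F, b₁ ≠ 0 → ν ≠ 0 → m (b₁, b₂, ν) = q * m₁ := fun b₁ b₂ ν h1 hν => by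
      rw [← hS4 (b₂ / (2 * b₁)) (b₁, b₂, ν)]
      show m (b₁, b₂ - 2 * (b₂ / (2 * b₁)) * b₁, ν) = _
      rw [show b₂ - 2 * (b₂ / (2 * b₁)) * b₁ = 0 by field_simp; ring]
      exact hax b₁ ν h1 hν
    intro b₁ b₂ ν h hν
    by_cases h1 : b₁ = 0
    · have h2 : b₂ ≠ 0 := fun h2 => h (by rw [h1, h2])
      rw [h1, ← hS7 (-(1 / (2 * b₂))) (0, b₂, ν)]
      show m (0 - 2 * -(1 / (2 * b₂)) * b₂, b₂, ν) = _
      rw [show (0 : F) - 2 * -(1 / (2 * b₂)) * b₂ = 1 by field_simp; ring]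
      exact key 1 b₂ ν one_ne_zero hν
    · exact key b₁ b₂ ν h1 hν
  have hmC : ∀ c, (m c : ℂ) = ((q : ℂ) ^ 3)⁻¹ *
      ∑ a : F × F × F, psi F (-dot c a) * ρ.character (ez a) := fun c => by
    rw [show (∑ a : F × F × F, psi F (-dot c a) * ρ.character (ez a)) = MS ρ c from rfl, hm,
      ← mul_assoc, inv_mul_cancel₀ (pow_ne_zero 3 hq), one_mul]
  have hinner : ∀ a : F × F × F,
      (∀ b : F, ∑ x : F, psi F (-(x * b)) = if b = 0 then (q : ℂ) else 0) := fun _ b => by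
    rw [hqdef, Finset.sum_congr rfl fun x _ => by rw [show -(x * b) = -b * x by ring], sum_psi]
    simp [neg_eq_zero]
  have hs := hinner 0
  have hprod : ∀ (b₁ b₂ ν : F) (a : F × F × F), psi F (-dot (b₁, b₂, ν) a) =
      psi F (-(b₁ * a.1)) * psi F (-(b₂ * a.2.1)) * psi F (-(ν * a.2.2)) := fun b₁ b₂ ν a => by
    rw [← AddChar.map_add_eq_mul, ← AddChar.map_add_eq_mul]
    congr 1
    simp only [dot]; ring
  have hall : ∑ b₁, ∑ b₂, ∑ ν, (m (b₁, b₂, ν) : ℂ) = k := by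
    have h : ∀ a : F × F × F, ∑ b₁, ∑ b₂, ∑ ν, psi F (-dot (b₁, b₂, ν) a) * ρ.character (ez a) =
        if a = 0 then (q : ℂ) ^ 3 * k else 0 := fun a => by
      simp only [hprod, ← Finset.sum_mul, ← Finset.mul_sum, hs]
      obtain ⟨a1, a2, a3⟩ := a
      by_cases e1 : a1 = 0 <;> by_cases e2 : a2 = 0 <;> by_cases e3 : a3 = 0 <;>
        simp [e1, e2, e3, Prod.ext_iff]
      rw [show ((0, 0, 0) : F × F × F) = 0 from rfl, ez_zero, Representation.char_one,
        Module.finrank_fin_fun]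
      ring
    simp only [hmC, ← Finset.mul_sum]
    rw [Finset.sum_congr rfl fun b₁ _ => (Finset.sum_congr rfl fun b₂ _ => Finset.sum_comm).trans
      Finset.sum_comm, Finset.sum_comm, Finset.sum_congr rfl fun a _ => h a, Finset.sum_ite_eq',
      if_pos (Finset.mem_univ _), ← mul_assoc, inv_mul_cancel₀ (pow_ne_zero 3 hq), one_mul]
  have hbot : ∑ b₁, ∑ b₂, (m (b₁, b₂, (0 : F)) : ℂ) = ww ρ := by
    have h : ∀ a : F × F × F, ∑ b₁, ∑ b₂, psi F (-dot (b₁, b₂, (0 : F)) a) * ρ.character (ez a) =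
        if a.1 = 0 ∧ a.2.1 = 0 then (q : ℂ) ^ 2 * ρ.character (zz a.2.2) else 0 := fun a => by
      simp only [hprod, ← Finset.sum_mul, ← Finset.mul_sum, hs]
      obtain ⟨a1, a2, a3⟩ := a
      by_cases e1 : a1 = 0 <;> by_cases e2 : a2 = 0 <;>
        simp [e1, e2, ez, xs_zero, sq, mul_assoc]
    simp only [hmC, ← Finset.mul_sum]
    rw [Finset.sum_congr rfl fun b₁ _ => Finset.sum_comm, Finset.sum_comm,
      Finset.sum_congr rfl fun a _ => h a, Fintype.sum_prod_type]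
    simp only [Fintype.sum_prod_type, ite_and]
    simp only [Finset.sum_ite_irrel, Finset.sum_const_zero, Finset.sum_ite_eq', Finset.mem_univ,
      if_true, ← Finset.mul_sum]
    rw [sum_char_zz, ← hqdef]
    field_simp
  have hline : ∑ b₁, ∑ ν, (m (b₁, (0 : F), ν) : ℂ) = (q : ℂ)⁻¹ * ∑ u, ρ.character (xs 2 u) := by
    have h : ∀ a : F × F × F, ∑ b₁, ∑ ν, psi F (-dot (b₁, (0 : F), ν) a) * ρ.character (ez a) =
        if a.1 = 0 ∧ a.2.2 = 0 then (q : ℂ) ^ 2 * ρ.character (xs 2 a.2.1) else 0 := fun a => by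
      simp only [hprod, ← Finset.sum_mul, ← Finset.mul_sum, hs]
      obtain ⟨a1, a2, a3⟩ := a
      by_cases e1 : a1 = 0 <;> by_cases e3 : a3 = 0 <;>
        simp [e1, e3, ez, xs_zero, zz_zero, sq, mul_assoc]
    simp only [hmC, ← Finset.mul_sum]
    rw [Finset.sum_congr rfl fun b₁ _ => Finset.sum_comm, Finset.sum_comm,
      Finset.sum_congr rfl fun a _ => h a]
    simp only [Fintype.sum_prod_type, ite_and]
    simp only [Finset.sum_ite_irrel, Finset.sum_const_zero, Finset.sum_ite_eq', Finset.mem_univ,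
      if_true, ← Finset.mul_sum]
    field_simp
  have hzline : ∑ b₁, (m (b₁, (0 : F), (0 : F)) : ℂ) = (SS (mult ρ) (fun B => B 2 = 0) : ℕ) := by
    have h : ∀ a : F × F × F, ∑ b₁, psi F (-dot (b₁, (0 : F), (0 : F)) a) * ρ.character (ez a) =
        if a.1 = 0 then (q : ℂ) * ρ.character (xs 2 a.2.1 * zz a.2.2) else 0 := fun a => by
      simp only [hprod, ← Finset.sum_mul, hs]
      obtain ⟨a1, a2, a3⟩ := a
      by_cases e1 : a1 = 0 <;> simp [e1, ez, xs_zero, AddChar.map_zero_eq_one]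
    simp only [hmC, ← Finset.mul_sum]
    rw [Finset.sum_comm, Finset.sum_congr rfl fun a _ => h a]
    simp only [Fintype.sum_prod_type]
    simp only [Finset.sum_ite_irrel, Finset.sum_const_zero, Finset.sum_ite_eq', Finset.mem_univ,
      if_true, ← Finset.mul_sum]
    have hd : ∀ u : F, ∑ v, ρ.character (xs 2 u * zz v) =
        (q : ℂ) * ∑ B, (mult ρ B : ℂ) * psi F (B 2 * u) := fun u => by
      have h1 := sum_dd ρ ⟨xs 2 u, xs_mem 2 u⟩
      simp only [BQ_spec] at h1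
      rw [sum_mult ρ (fun B => psi F (B 2 * u)), ← hqdef] at h1
      exact h1.symm
    rw [Finset.sum_congr rfl fun u _ => hd u, ← Finset.mul_sum, Finset.sum_comm, SS, Nat.cast_sum,
      Finset.sum_filter]
    rw [← mul_assoc, ← mul_assoc, Finset.mul_sum]
    refine Finset.sum_congr rfl fun B _ => ?_
    rw [← Finset.mul_sum, sum_psi, ← hqdef]
    by_cases hB : B 2 = 0 <;> simp [hB] <;> field_simp
  have hsplit : ∀ g : F → ℕ, ∑ x, g x = g 0 + ∑ x ∈ Finset.univ.erase (0 : F), g x :=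
    fun g => (Finset.add_sum_erase _ _ (Finset.mem_univ _)).symm
  have hce : (Finset.univ.erase (0 : F)).card = q - 1 := by
    rw [Finset.card_erase_of_mem (Finset.mem_univ _), Finset.card_univ]
  have htop : ∀ ν : F, ν ≠ 0 →
      ∑ b₁, ∑ b₂, m (b₁, b₂, ν) = q * m₀ + (q ^ 2 - 1) * (q * m₁) := fun ν hν => by
    rw [← Fintype.sum_prod_type' fun b₁ b₂ => m (b₁, b₂, ν),
      ← Finset.add_sum_erase _ _ (Finset.mem_univ ((0, 0) : F × F)),
      Finset.sum_congr rfl fun p hp => hnz p.1 p.2 ν (Finset.ne_of_mem_erase hp) hν,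
      Finset.sum_const, Finset.card_erase_of_mem (Finset.mem_univ _), Finset.card_univ,
      Fintype.card_prod, smul_eq_mul, hzero ν hν, ← hqdef, sq]
  have hline' : ∀ ν : F, ν ≠ 0 → ∑ b₁, m (b₁, (0 : F), ν) = q * m₀ + (q - 1) * (q * m₁) := fun ν hν => by
    rw [hsplit, hzero ν hν, Finset.sum_congr rfl fun b hb => hax b ν (Finset.ne_of_mem_erase hb) hν,
      Finset.sum_const, hce, smul_eq_mul]
  refine ⟨∑ b₁, ∑ ν, m (b₁, (0 : F), ν), m₀, m₁, ?_, ?_, ?_⟩
  · push_cast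
    rw [hline, ← mul_assoc, mul_inv_cancel₀ hq, one_mul]
  · have h1 : (∑ b₁, ∑ b₂, ∑ ν, m (b₁, b₂, ν)) = k := by exact_mod_cast hall
    have h2 : (∑ b₁, ∑ b₂, m (b₁, b₂, (0 : F))) = ww ρ := by exact_mod_cast hbot
    rw [Finset.sum_congr rfl fun b₁ _ => Finset.sum_comm, Finset.sum_comm, hsplit, h2,
      Finset.sum_congr rfl fun ν hν => htop ν (Finset.ne_of_mem_erase hν), Finset.sum_const, hce,
      smul_eq_mul] at h1
    linarith
  · have h2 : (∑ b₁, m (b₁, (0 : F), (0 : F))) = SS (mult ρ) (fun B => B 2 = 0) := by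
      exact_mod_cast hzline
    rw [Finset.sum_comm, hsplit, h2,
      Finset.sum_congr rfl fun ν hν => hline' ν (Finset.ne_of_mem_erase hν), Finset.sum_const, hce,
      smul_eq_mul]
    ring

end Cfsg.Agent.G2Deg
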