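import Cfsg.Agent.G2Deg.Long
import Cfsg.Agent.G2Deg.Away
import Cfsg.Agent.OrthDeg.SLRep
import Cfsg.Agent.Char.Integral
import Cfsg.Agent.Classical.LinearBasic

/-!
The irreducible summand of the long root group containing an axis vector.
-/

set_option autoImplicit false
set_option maxRecDepth 100000

namespace Cfsg.Agent.G2Deg

open Cfsg.Lie Cfsg.Agent.Chev Matrix
open Cfsg.Agent.E6Deg (lamH pdim proj proj_sq proj_orth proj_conj trace_proj proj_eq_zero)

universe u

variable {F : Type u} [Field F] [Fintype F] [DecidableEq F] {k : ℕ}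
  (ρ : Representation ℂ (Gp F) (Fin k → ℂ))

local notation "S3" => SpecialLinearGroup (Fin 3) F

theorem dd_eq_mult (Λ : Chi F) : dd ρ Λ = mult ρ (BQ Λ) := by
  rw [mult, Finset.sum_eq_single Λ]
  · intro b hb hne
    exact absurd (BQ_injective (Finset.mem_filter.1 hb).2) hne
  · intro h
    exact absurd ((Finset.mem_filter (p := fun Λ' => BQ Λ' = BQ Λ)).2 ⟨Finset.mem_univ Λ, rfl⟩) h

theorem exists_of_mult {B : Fin 4 → F} (h : 0 < mult ρ B) : ∃ Λ, BQ Λ = B ∧ dd ρ Λ = mult ρ B := by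
  obtain ⟨Λ, hΛ, -⟩ := Finset.exists_ne_zero_of_sum_ne_zero h.ne'
  obtain rfl := (Finset.mem_filter.1 hΛ).2
  exact ⟨Λ, rfl, dd_eq_mult ρ Λ⟩

/-- The total multiplicity over long coordinates. -/
noncomputable def tot (c : F × F) : ℕ :=
  SS (mult ρ) fun B => B 0 = c.1 ∧ B 3 = c.2

theorem rank_QP (c : F × F) : Module.finrank ℂ (LinearMap.range (QP ρ c)) = tot ρ c := by
  have h : LinearMap.trace ℂ _ (QP ρ c) = (Module.finrank ℂ (LinearMap.range (QP ρ c)) : ℂ) :=
    (LinearMap.IsProj.mk (fun x => LinearMap.mem_range_self _ x) (by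
      rintro _ ⟨x, rfl⟩
      exact LinearMap.congr_fun (QP_sq ρ c) x) :
      LinearMap.IsProj (LinearMap.range (QP ρ c)) (QP ρ c)).trace
  have h2 := sum_mult ρ fun B => if B 0 = c.1 ∧ B 3 = c.2 then 1 else 0
  rw [QP, map_sum, Finset.sum_congr rfl fun Λ _ => trace_proj ρ (piQ F) Λ] at h
  simp only [mul_ite, mul_one, mul_zero, ← Finset.sum_filter] at h2
  have e : Finset.univ.filter (fun Λ : Chi F => co Λ = c) =
      Finset.univ.filter (fun Λ : Chi F => BQ Λ 0 = c.1 ∧ BQ Λ 3 = c.2) := by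
    ext Λ; simp [co, Prod.ext_iff]
  rw [e] at h
  have h3 : ((tot ρ c : ℕ) : ℂ) = (Module.finrank ℂ (LinearMap.range (QP ρ c)) : ℂ) := by
    rw [QP, e, ← h, tot, SS, Nat.cast_sum, ← h2]
    rfl
  exact_mod_cast h3.symm

variable {E : Module.End ℂ (Fin k → ℂ)}

theorem del_le (hE : CommL ρ E) (c : F × F) : del ρ E c ≤ tot ρ c := by
  rw [← rank_QP, del, commute_QP ρ hE c]
  exact Submodule.finrank_mono (LinearMap.range_comp_le_range _ _)

/-- A subspace invariant under the long root group. -/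
def InvL (U : Submodule ℂ (Fin k → ℂ)) : Prop := ∀ X : S3, ∀ v ∈ U, ρ (psiL X) v ∈ U

/-- The projection on an invariant subspace. -/
theorem exists_projL {U : Submodule ℂ (Fin k → ℂ)} (hU : InvL ρ U) :
    ∃ E : Module.End ℂ (Fin k → ℂ), CommL ρ E ∧ E * E = E ∧ LinearMap.range E = U := by
  let σ : Representation ℂ S3 (Fin k → ℂ) := ρ.comp psiL
  let S : Subrepresentation σ := ⟨U, fun g v hv => hU g v hv⟩
  haveI : NeZero (Nat.card S3 : ℂ) := ⟨Nat.cast_ne_zero.2 Nat.card_pos.ne'⟩
  obtain ⟨T, hT⟩ := exists_isCompl S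
  have hT' : IsCompl U T.toSubmodule :=
    ⟨disjoint_iff.2 (congrArg Subrepresentation.toSubmodule (disjoint_iff.1 hT.1)),
      codisjoint_iff.2 (congrArg Subrepresentation.toSubmodule (codisjoint_iff.1 hT.2))⟩
  refine ⟨U.subtype ∘ₗ U.projectionOnto T.toSubmodule hT', ?_, ?_, ?_⟩
  · rintro _ ⟨X, rfl⟩
    refine LinearMap.ext fun v => ?_
    obtain ⟨a, ha, b, hb, rfl⟩ := Submodule.mem_sup.1
      (hT'.sup_eq_top.ge (Submodule.mem_top : v ∈ ⊤))
    have ha' : ρ (psiL X) a ∈ U := hU X a ha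
    have hb' : ρ (psiL X) b ∈ T.toSubmodule := T.apply_mem_toSubmodule X hb
    simp only [Module.End.mul_apply, LinearMap.comp_apply, Submodule.subtype_apply, map_add]
    rw [Submodule.projectionOnto_apply_of_mem_left hT' ha,
      Submodule.projectionOnto_apply_of_mem_left hT' ha',
      Submodule.projectionOnto_apply_of_mem_right hT' hb,
      Submodule.projectionOnto_apply_of_mem_right hT' hb']
    simp
  · refine LinearMap.ext fun v => ?_
    simp only [Module.End.mul_apply, LinearMap.comp_apply, Submodule.subtype_apply]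
    rw [Submodule.projectionOnto_apply_left]
  · rw [LinearMap.range_comp, Submodule.range_projectionOnto, Submodule.map_top,
      Submodule.range_subtype]

/-- The summand generated by an axis vector is irreducible. -/
theorem exists_summand (h10 : tot ρ (1, 0) = 1) :
    ∃ (E : Module.End ℂ (Fin k → ℂ)), CommL ρ E ∧ E * E = E ∧ 1 ≤ del ρ E (1, 0) ∧
      InvL ρ (LinearMap.range E) ∧
      (∀ U, InvL ρ U → U ≤ LinearMap.range E → U = ⊥ ∨ U = LinearMap.range E) ∧
      (∃ X : S3, ∃ v ∈ LinearMap.range E, ρ (psiL X) v ≠ v) := by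
  classical
  have hne : LinearMap.range (QP ρ (1, 0)) ≠ ⊥ := fun h => by
    have := rank_QP ρ (1, 0)
    rw [h, finrank_bot, h10] at this
    omega
  obtain ⟨v0, hv0, hv00⟩ := Submodule.exists_mem_ne_zero_of_ne_bot hne
  have hQv : QP ρ (1, 0) v0 = v0 := by
    obtain ⟨x, rfl⟩ := hv0
    exact LinearMap.congr_fun (QP_sq ρ (1, 0)) x
  set W : Submodule ℂ (Fin k → ℂ) := Submodule.span ℂ (Set.range fun X : S3 => ρ (psiL X) v0)
    with hW
  have hWinv : InvL ρ W := fun X v hv => by
    rw [hW] at hv ⊢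
    refine Submodule.span_induction (p := fun x _ => ρ (psiL X) x ∈ _) ?_ ?_ ?_ ?_ hv
    · rintro _ ⟨Y, rfl⟩
      refine Submodule.subset_span ⟨X * Y, ?_⟩
      show ρ (psiL (X * Y)) v0 = _
      rw [map_mul, map_mul]; rfl
    · rw [map_zero]; exact Submodule.zero_mem _
    · intro x y _ _ hx hy; rw [map_add]; exact Submodule.add_mem _ hx hy
    · intro a x _ hx; rw [map_smul]; exact Submodule.smul_mem _ a hx
  have hv0W : v0 ∈ W := Submodule.subset_span ⟨1, by simp⟩
  obtain ⟨E, hE, hi, hr⟩ := exists_projL ρ hWinv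
  have hEv : E v0 = v0 := by
    obtain ⟨x, hx⟩ := hr.ge hv0W
    rw [← hx]
    exact LinearMap.congr_fun hi x
  refine ⟨E, hE, hi, ?_, hr ▸ hWinv, fun U hU hUW => ?_, ?_⟩
  · refine Nat.one_le_iff_ne_zero.2 fun h0 => hv00 ?_
    rw [del, Submodule.finrank_eq_zero] at h0
    have h : (E * QP ρ (1, 0)) v0 ∈ LinearMap.range (E * QP ρ (1, 0)) := LinearMap.mem_range_self _ _
    rw [h0, Submodule.mem_bot, Module.End.mul_apply, hQv, hEv] at h
    exact h
  · obtain ⟨E', hE', hi', hr'⟩ := exists_projL ρ hU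
    obtain ⟨w, hw0, hw⟩ := finrank_eq_one_iff'.1 ((rank_QP ρ (1, 0)).trans h10)
    have hmem : E' v0 ∈ LinearMap.range (QP ρ (1, 0)) := ⟨E' v0, by
      have h := LinearMap.congr_fun (commute_QP ρ hE' (1, 0)) v0
      rw [Module.End.mul_apply, Module.End.mul_apply, hQv] at h
      exact h.symm⟩
    obtain ⟨a, ha⟩ := hw ⟨_, hmem⟩
    obtain ⟨b, hb⟩ := hw ⟨_, hv0⟩
    have hb' : b • (w : Fin k → ℂ) = v0 := congrArg Subtype.val hb
    have hb0 : b ≠ 0 := fun h => hv00 (by rw [← hb', h, zero_smul])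
    have hEa : E' v0 = (a / b) • v0 := by
      rw [← hb', smul_smul, div_mul_cancel₀ a hb0]
      rw [hb']
      exact (congrArg Subtype.val ha).symm
    by_cases hab : a / b = 0
    · left
      have hker : ∀ x ∈ W, E' x = 0 := fun x hx => by
        rw [hW] at hx
        refine Submodule.span_induction (p := fun x _ => E' x = 0) ?_ (map_zero _) ?_ ?_ hx
        · rintro _ ⟨Y, rfl⟩
          rw [show E' (ρ (psiL Y) v0) = ρ (psiL Y) (E' v0) from
            LinearMap.congr_fun (hE' _ ⟨Y, rfl⟩) v0, hEa, hab, zero_smul, map_zero]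
        · intro x y _ _ hx hy; rw [map_add, hx, hy, add_zero]
        · intro c x _ hx; rw [map_smul, hx, smul_zero]
      rw [Submodule.eq_bot_iff]
      intro u hu
      obtain ⟨x, hx⟩ := hr'.ge hu
      rw [← hx, show E' x = E' (E' x) from (LinearMap.congr_fun hi' x).symm, hx]
      exact hker u (hr ▸ hUW hu)
    · right
      refine le_antisymm hUW ?_
      rw [hr, hW, Submodule.span_le]
      have hv0U : v0 ∈ U := by
        rw [← inv_smul_smul₀ hab v0, ← hEa]
        exact Submodule.smul_mem _ _ (hr'.le (LinearMap.mem_range_self _ _))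
      rintro _ ⟨Y, rfl⟩
      exact hU Y v0 hv0U
  · by_contra hcon
    push Not at hcon
    have hfix : ∀ g, InL g → ρ g v0 = v0 := by
      rintro _ ⟨X, rfl⟩
      exact hcon X v0 (hr.ge hv0W)
    have hMM : ∀ u w : F, MM ρ (uw u w : Gp F) v0 = v0 := fun u w => by
      rw [MM, LinearMap.smul_apply, LinearMap.sum_apply,
        Finset.sum_congr rfl fun v _ => hfix ((uw u w : Gp F) * zz v) (inL_mul (inL_mul (inL_xs_zero u) (inL_xs_three w)) (inL_zz v)),
        Finset.sum_const, Finset.card_univ, ← Nat.cast_smul_eq_nsmul ℂ, smul_smul,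
        inv_mul_cancel₀ (Nat.cast_ne_zero.2 Fintype.card_ne_zero), one_smul]
    have h := LinearMap.congr_fun (QP_eq ρ ((1 : F), (0 : F))) v0
    simp only [LinearMap.smul_apply, LinearMap.sum_apply, hQv, hMM, ← Finset.sum_smul, smul_smul] at h
    have hs : (∑ u : F, ∑ w : F, psi F (-(1 * u)) * psi F (-(0 * w))) = 0 := by
      rw [← Finset.sum_mul_sum, show (∑ u : F, psi F (-(1 * u))) = ∑ u : F, psi F ((-1 : F) * u) from
        Finset.sum_congr rfl fun u _ => by rw [neg_mul], sum_psi,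
        if_neg (neg_ne_zero.2 one_ne_zero), zero_mul]
    rw [hs, zero_smul, smul_eq_zero] at h
    exact hv00 (h.resolve_left (pow_ne_zero 2 (Nat.cast_ne_zero.2 Fintype.card_ne_zero)))

end Cfsg.Agent.G2Deg
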