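import Cfsg.Agent.G2Deg.Cubics
import Cfsg.Agent.Char.Linear
import Cfsg.Agent.Char.Integral
import Cfsg.Agent.Chev.SimpleAll

/-!
The degree through the multiplicities of the characters of the radical.
-/

set_option autoImplicit false
set_option maxRecDepth 100000

namespace Cfsg.Agent.G2Deg

open Cfsg.Lie Cfsg.Agent.Chev
open Cfsg.Agent.E6Deg (lamH lamH_one pdim proj pdim_conj sum_proj trace_proj)

universe u

variable {F : Type u} [Field F] [Fintype F] {k : ℕ} (ρ : Representation ℂ (Gp F) (Fin k → ℂ))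

noncomputable instance : Fintype ↥(HQ F) := Fintype.ofFinite _

noncomputable instance : Fintype (QB F) := Fintype.ofFinite _

noncomputable instance : DecidableEq (QB F) := Classical.decEq _

noncomputable instance : Fintype (Chi F) := Fintype.ofFinite _

/-- The multiplicity of a character. -/
noncomputable def dd (Λ : Chi F) : ℕ := pdim ρ (piQ F) Λ

/-- The multiplicity as a weight on cubics. -/
noncomputable def mult [DecidableEq F] (B : Fin 4 → F) : ℕ :=
  ∑ Λ ∈ Finset.univ.filter (fun Λ : Chi F => BQ Λ = B), dd ρ Λ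

theorem zH_injective : Function.Injective (zH : Multiplicative F → ↥(HQ F)) := fun a b h =>
  Multiplicative.toAdd.injective (zz_injective (congrArg Subtype.val h))

theorem card_HQ : Fintype.card ↥(HQ F) = Fintype.card (QB F) * Fintype.card F := by
  have h := Subgroup.card_eq_card_quotient_mul_card_subgroup (ZQ F)
  have hZ : Nat.card ↥(ZQ F) = Fintype.card F := by
    rw [ZQ, Nat.card_congr (MonoidHom.ofInjective (zH_injective (F := F))).toEquiv.symm,
      Nat.card_congr (Multiplicative.toAdd (α := F)), Nat.card_eq_fintype_card]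
  rw [hZ, Nat.card_eq_fintype_card, Nat.card_eq_fintype_card] at h
  exact h

/-- The multiplicities by character values. -/
theorem sum_dd (g : ↥(HQ F)) :
    (Fintype.card F : ℂ) * ∑ Λ, (dd ρ Λ : ℂ) * lamH (piQ F) Λ g =
      ∑ v, ρ.character ((g : Gp F) * zz v) := by
  classical
  let f : F → ↥(HQ F) := fun v => g * zH (Multiplicative.ofAdd v)
  have hf : Function.Injective f := fun x y h =>
    Multiplicative.ofAdd.injective (zH_injective (mul_left_cancel h))
  have him : Finset.univ.filter (fun h => piQ F h = piQ F g) = Finset.univ.image f := by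
    ext h
    simp only [Finset.mem_filter, Finset.mem_univ, true_and, Finset.mem_image]
    constructor
    · intro hh
      obtain ⟨v, hv⟩ := QuotientGroup.eq.1 hh.symm
      refine ⟨v.toAdd, ?_⟩
      show g * zH (Multiplicative.ofAdd v.toAdd) = h
      rw [ofAdd_toAdd, hv, mul_inv_cancel_left]
    · rintro ⟨v, rfl⟩
      show piQ F (g * zH (Multiplicative.ofAdd v)) = piQ F g
      rw [map_mul, mul_eq_left]
      exact piQ_zz v
  have h := congrArg (LinearMap.trace ℂ _) (sum_proj ρ (piQ F) g)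
  simp only [map_smul, map_sum, trace_proj, him, Finset.sum_image fun x _ y _ e => hf e, card_HQ,
    Nat.cast_mul, smul_eq_mul] at h
  refine mul_left_cancel₀ (Nat.cast_ne_zero.2 (Fintype.card_ne_zero (α := QB F))) ?_
  rw [← mul_assoc]
  convert h using 1
  · congr 1
    exact Finset.sum_congr rfl fun Λ _ => mul_comm _ _
  · congr 1

theorem dd_act {g : Gp F} (hg : Nrm g) (Λ : Chi F) : dd ρ (actL hg Λ) = dd ρ Λ :=
  pdim_conj ρ (piQ F) (conjE hg) (conjE_val hg) (lamH_actL hg Λ)

variable [DecidableEq F]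

theorem mult_act {g : Gp F} (hg : Nrm g) {f : (Fin 4 → F) → Fin 4 → F} (hf : Function.Injective f)
    (hB : ∀ Λ, BQ (actL hg Λ) = f (BQ Λ)) (B : Fin 4 → F) : mult ρ (f B) = mult ρ B := by
  let e : Chi F ≃ Chi F := Equiv.ofBijective (actL hg)
    (Finite.injective_iff_bijective.1 (actL_injective hg))
  unfold mult
  refine (Finset.sum_equiv e ?_ ?_).symm
  · intro Λ
    simp only [Finset.mem_filter, Finset.mem_univ, true_and, e, Equiv.ofBijective_apply, hB]
    exact ⟨fun h => by rw [h], fun h => hf h⟩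
  · intro Λ _
    exact (dd_act ρ hg Λ).symm

theorem wt : Wt (mult ρ) := by
  refine ⟨fun a => mult_act ρ (nrm_seven a) (opA_inj a) (BQ_seven a),
    fun a => mult_act ρ (nrm_four a) (opD_inj a) (BQ_four a), fun a b ha hb => ?_, ?_⟩
  · exact mult_act ρ (nrm_hh (Units.mk0 a ha) (Units.mk0 b hb)) (opH_inj ha hb)
      (BQ_hh (Units.mk0 a ha) (Units.mk0 b hb))
  · obtain ⟨g, hg, c, hc, h⟩ := exists_rev (F := F)
    exact ⟨c, hc, mult_act ρ hg (opR_inj hc) fun Λ => funext fun S => h Λ S⟩

/-- Sums over characters as sums over cubics. -/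
theorem sum_mult (f : (Fin 4 → F) → ℂ) :
    ∑ Λ, (dd ρ Λ : ℂ) * f (BQ Λ) = ∑ B, (mult ρ B : ℂ) * f B := by
  rw [← Finset.sum_fiberwise Finset.univ BQ]
  refine Finset.sum_congr rfl fun B _ => ?_
  rw [mult, Nat.cast_sum, Finset.sum_mul]
  exact Finset.sum_congr rfl fun Λ hΛ => by rw [(Finset.mem_filter.1 hΛ).2]

/-- The dimension of the fixed space of the highest root group. -/
noncomputable def ww : ℕ := SS (mult ρ) fun _ => True

omit [DecidableEq F] in
theorem char_zz {v : F} (hv : v ≠ 0) : ρ.character (zz v) = ρ.character (zz (1 : F)) := by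
  have h := hh_zz (1 : Fˣ) (Units.mk0 v hv) 1
  rw [Units.val_mk0, mul_one] at h
  rw [← h, ρ.char_conj]

omit [Fintype F] [DecidableEq F] in
theorem char_shift {g : Gp F} {c : F} (hc : c ≠ 0)
    (h : ∀ v, ∃ P : Gp F, P * g * P⁻¹ = g * zz (c * v)) (w : F) :
    ρ.character (g * zz w) = ρ.character g := by
  obtain ⟨P, hP⟩ := h (c⁻¹ * w)
  rw [mul_inv_cancel_left₀ hc] at hP
  rw [← hP, ρ.char_conj]

theorem chk_long : ([0, 1] : List ℕ).foldr chevG2.reflectRoot 11 = 6 ∧
    0 < chevG2.rank ∧ 1 < chevG2.rank := by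
  decide +kernel

omit [DecidableEq F] in
/-- The long root elements of the radical. -/
theorem char_long {u : F} (hu : u ≠ 0) (v : F) :
    ρ.character (xs 0 u * zz v) = ρ.character (zz (1 : F)) := by
  rw [char_shift ρ (neg_ne_zero.2 hu) (fun w => ⟨xs 3 w, by rw [xs_pair]; congr 2; ring⟩) v]
  obtain ⟨h6, h0, h1⟩ := chk_long
  obtain ⟨c, hc, h⟩ := isMon_nWord facts_chevG2 [⟨0, h0⟩, ⟨1, h1⟩] (F := F)
    ⟨11, show 11 < chevG2.nroots by decide⟩
  let n : Gp F := ⟨nWord facts_chevG2 [⟨0, h0⟩, ⟨1, h1⟩],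
    monomial_le_group facts_chevG2 (nWord_mem facts_chevG2 _)⟩
  have e : n * zz (c⁻¹ * u) * n⁻¹ = xs 0 u := by
    refine Subtype.ext ?_
    show nWord facts_chevG2 _ * xG facts_chevG2 11 (c⁻¹ * u) * (nWord facts_chevG2 _)⁻¹ =
      xG facts_chevG2 6 u
    rw [h, mul_inv_cancel_right, mul_inv_cancel_left₀ hc, pWord_cons, pWord_cons,
      Equiv.Perm.mul_apply, Equiv.Perm.mul_apply, wPerm_val, wPerm_val]
    exact congrArg (fun r => xG facts_chevG2 r u) h6
  rw [← e, ρ.char_conj, char_zz ρ (mul_ne_zero (inv_ne_zero hc) hu)]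

theorem sum_char_zz : ∑ v, ρ.character (zz v) = (Fintype.card F : ℂ) * ww ρ := by
  have h := sum_dd ρ (1 : ↥(HQ F))
  simp only [Subgroup.coe_one, one_mul, lamH_one, mul_one] at h
  rw [← h]
  congr 1
  have h2 := sum_mult ρ fun _ => 1
  simp only [mul_one] at h2
  rw [h2, ww, SS, Finset.filter_true, Nat.cast_sum]

theorem char_zz_split :
    (Fintype.card F : ℂ) * ww ρ = k + ((Fintype.card F : ℂ) - 1) * ρ.character (zz (1 : F)) := by
  rw [← sum_char_zz, ← Finset.add_sum_erase _ _ (Finset.mem_univ (0 : F)), zz_zero,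
    Representation.char_one, Module.finrank_pi, Fintype.card_fin,
    Finset.sum_congr rfl fun v hv => char_zz ρ (Finset.ne_of_mem_erase hv), Finset.sum_const,
    Finset.card_erase_of_mem (Finset.mem_univ _), Finset.card_univ, nsmul_eq_mul,
    Nat.cast_sub Fintype.card_pos, Nat.cast_one]

/-- The number `N`. -/
noncomputable def nn : ℕ := SS (mult ρ) fun B => B 0 ≠ 0

/-- The degree formula. -/
theorem degree_eq : k = ww ρ + Fintype.card F * nn ρ := by
  classical
  set q := Fintype.card F with hqdef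
  have hq : (q : ℂ) ≠ 0 := Nat.cast_ne_zero.2 Fintype.card_ne_zero
  set c := ρ.character (zz (1 : F)) with hc
  have hu : ∀ u : F, u ≠ 0 → ∑ B, (mult ρ B : ℂ) * psi F (B 0 * u) = c := by
    intro u hu
    have h := sum_dd ρ ⟨xs 0 u, xs_mem 0 u⟩
    simp only [BQ_spec] at h
    rw [sum_mult ρ (fun B => psi F (B 0 * u)), Finset.sum_congr rfl fun v _ => char_long ρ hu v,
      Finset.sum_const, Finset.card_univ, nsmul_eq_mul] at h
    exact mul_left_cancel₀ hq h
  have hw : ∑ B, (mult ρ B : ℂ) = ww ρ := by rw [ww, SS, Finset.filter_true, Nat.cast_sum]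
  have h1 : ∑ u, ∑ B, (mult ρ B : ℂ) * psi F (B 0 * u) = (ww ρ : ℂ) + ((q : ℂ) - 1) * c := by
    rw [← Finset.add_sum_erase _ _ (Finset.mem_univ (0 : F)),
      Finset.sum_congr rfl fun u hu' => hu u (Finset.ne_of_mem_erase hu'), Finset.sum_const,
      Finset.card_erase_of_mem (Finset.mem_univ _), Finset.card_univ, nsmul_eq_mul,
      Nat.cast_sub Fintype.card_pos, Nat.cast_one, ← hw, ← hqdef]
    congr 1
    exact Finset.sum_congr rfl fun B _ => by rw [mul_zero, AddChar.map_zero_eq_one, mul_one]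
  have h2 : ∑ u, ∑ B, (mult ρ B : ℂ) * psi F (B 0 * u) = (q : ℂ) * ((ww ρ : ℂ) - nn ρ) := by
    rw [Finset.sum_comm, ← hw, nn, SS, Nat.cast_sum, Finset.sum_filter, ← Finset.sum_sub_distrib,
      Finset.mul_sum]
    refine Finset.sum_congr rfl fun B _ => ?_
    rw [← Finset.mul_sum, sum_psi]
    by_cases h : B 0 = 0 <;> simp [h, hqdef, mul_comm]
  have h3 := char_zz_split ρ
  rw [← hqdef, ← hc] at h3
  have : (k : ℂ) = ((ww ρ + q * nn ρ : ℕ) : ℂ) := by
    push_cast
    linear_combination h1 - h2 - h3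
  exact_mod_cast this

/-- A faithful representation is not trivial on the highest root group. -/
theorem nn_pos (hρ : ρ.IsIrreducible) (hk : 2 ≤ k) (h3 : 3 ≤ Fintype.card F) : 0 < nn ρ := by
  haveI : IsSimpleGroup (Gp F) := (g2_simple (F := F) (by
    obtain ⟨a, ha⟩ : ∃ a : F, a ∉ ({0, 1} : Finset F) := by
      by_contra hc
      push Not at hc
      have := Finset.card_le_card (fun a _ => hc a : (Finset.univ : Finset F) ⊆ {0, 1})
      have h2 := Finset.card_le_two (a := (0 : F)) (b := 1)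
      rw [Finset.card_univ] at this
      omega
    simp only [Finset.mem_insert, Finset.mem_singleton, not_or] at ha
    exact ⟨a, ha⟩)).1
  by_contra h0
  have hkw : k = ww ρ := by
    have := degree_eq ρ
    rw [Nat.eq_zero_of_not_pos h0, mul_zero, add_zero] at this
    exact this
  have hs := char_zz_split ρ
  rw [← hkw] at hs
  have hdim : Module.finrank ℂ (Fin k → ℂ) = k := by rw [Module.finrank_pi, Fintype.card_fin]
  have hq1 : ((Fintype.card F : ℂ) - 1) ≠ 0 := by
    rw [sub_ne_zero]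
    exact_mod_cast (by omega : Fintype.card F ≠ 1)
  have hc : ρ.character (zz (1 : F)) = (k : ℂ) :=
    mul_left_cancel₀ hq1 (by linear_combination -hs)
  have hz : ρ (zz (1 : F)) = LinearMap.id := by
    refine (Char.character_eq_finrank_iff ρ _).1 ?_
    rw [hdim, hc]
  have hker : ρ.ker = ⊤ := by
    rcases (MonoidHom.normal_ker ρ).eq_bot_or_eq_top with h | h
    · exfalso
      have hm' : zz (1 : F) ∈ ρ.ker := by rw [MonoidHom.mem_ker, hz]; rfl
      rw [h, Subgroup.mem_bot] at hm'
      exact one_ne_zero (zz_eq_one_iff.1 hm')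
    · exact h
  obtain ⟨-, hsub⟩ := Char.isIrreducible_iff.1 hρ
  haveI : Nonempty (Fin k) := ⟨⟨0, by omega⟩⟩
  obtain ⟨x, hx⟩ := exists_ne (0 : Fin k → ℂ)
  have hinvsub := hsub (Submodule.span ℂ {x}) fun g v hv => by
    rw [show ρ g = 1 from MonoidHom.mem_ker.1 (hker ▸ Subgroup.mem_top g)]
    exact hv
  rcases hinvsub with h | h
  · exact hx (Submodule.span_singleton_eq_bot.1 h)
  · have := finrank_span_singleton (K := ℂ) hx
    rw [h, finrank_top, hdim] at this
    omega

end Cfsg.Agent.G2Deg
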