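import Cfsg.Agent.E6Deg.Arith
import Mathlib.Data.Nat.MaxPowDiv
import Mathlib.RingTheory.Coprime.Lemmas

/-!
The arithmetic of the degrees in characteristic three.
-/

set_option autoImplicit false
set_option maxRecDepth 100000

namespace Cfsg.Agent.G2Deg

/-- No degree just below the bound. -/
theorem no_window {q f k j : ℕ} (hf : 2 ≤ f) (hq : q = 3 ^ f) (hk : k + j = q ^ 4 + q ^ 2)
    (hj : j ≤ q + 1) (hd : k ∣ q ^ 6 * (q ^ 2 - 1) * (q ^ 6 - 1)) : False := by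
  have hq9 : 9 ≤ q := by
    rw [hq]; exact le_trans (by norm_num) (Nat.pow_le_pow_right (by norm_num : 0 < 3) hf)
  have hsq : q * 9 ≤ q ^ 2 := by rw [sq]; exact Nat.mul_le_mul_left q hq9
  have hdZ : (k : ℤ) ∣ (((q : ℤ) ^ 4 + (q : ℤ) ^ 2 + 1) * ((q : ℤ) ^ 2 - 1) ^ 2) * (q : ℤ) ^ 6 := by
    have h1 : 1 ≤ q ^ 2 := Nat.one_le_pow _ _ (by omega)
    have h2 : 1 ≤ q ^ 6 := Nat.one_le_pow _ _ (by omega)
    have h := Int.natCast_dvd_natCast.2 hd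
    push_cast [Nat.cast_sub h1, Nat.cast_sub h2] at h
    rw [show ((q : ℤ) ^ 4 + (q : ℤ) ^ 2 + 1) * ((q : ℤ) ^ 2 - 1) ^ 2 * (q : ℤ) ^ 6 =
      (q : ℤ) ^ 6 * ((q : ℤ) ^ 2 - 1) * ((q : ℤ) ^ 6 - 1) by ring]
    exact h
  have hkZ : (k : ℤ) + j = (q : ℤ) ^ 4 + (q : ℤ) ^ 2 := by exact_mod_cast hk
  rcases Nat.eq_zero_or_pos j with rfl | hj0
  · -- the multiple of the square
    rw [Nat.cast_zero, add_zero] at hkZ
    set M : ℤ := (q : ℤ) ^ 2 + 1 with hM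
    have h : M ∣ (((q : ℤ) ^ 4 + (q : ℤ) ^ 2 + 1) * ((q : ℤ) ^ 2 - 1) ^ 2) * (q : ℤ) ^ 6 :=
      dvd_trans ⟨(q : ℤ) ^ 2, by rw [hkZ, hM]; ring⟩ hdZ
    have b0 : (1 : ℤ) = 1 * M + (-(q : ℤ)) * (q : ℤ) := by rw [hM]; ring
    have b1 : (2 : ℤ) = 1 * M + (-1) * ((q : ℤ) ^ 2 - 1) := by rw [hM]; ring
    have b2 : (1 : ℤ) = (-(q : ℤ) ^ 2) * M + 1 * ((q : ℤ) ^ 4 + (q : ℤ) ^ 2 + 1) := by rw [hM]; ring
    have h5 := E6Deg.strip b0 (X := ((q : ℤ) ^ 4 + (q : ℤ) ^ 2 + 1) * ((q : ℤ) ^ 2 - 1) ^ 2) 6 h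
    have h6 := E6Deg.strip b1 (X := (q : ℤ) ^ 4 + (q : ℤ) ^ 2 + 1) 2 (by convert h5 using 1; ring)
    have h7 := E6Deg.strip b2 (X := (4 : ℤ)) 1 (by convert h6 using 1; ring)
    have hle := Int.le_of_dvd (by norm_num) h7
    have : (81 : ℤ) ≤ (q : ℤ) ^ 2 := by exact_mod_cast (by omega : 81 ≤ q ^ 2)
    rw [hM] at hle
    omega
  obtain ⟨a, r, hr, hjr⟩ := Nat.exists_eq_pow_mul_and_not_dvd hj0.ne' 3 (by norm_num)
  have hr0 : 0 < r := Nat.pos_of_ne_zero fun h => hr (h ▸ dvd_zero 3)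
  have hale : a ≤ f := by
    by_contra hlt
    have h1 : 3 ^ (f + 1) ≤ 3 ^ a := Nat.pow_le_pow_right (by norm_num) (by omega)
    have h2 : 3 ^ a ≤ j := by rw [hjr]; exact Nat.le_mul_of_pos_right _ hr0
    rw [pow_succ, ← hq] at h1
    omega
  -- the part of the degree prime to three
  have hdiv : 3 ^ a ∣ k := by
    have hqa : 3 ^ a ∣ q := hq ▸ pow_dvd_pow 3 hale
    have h4 : 3 ^ a ∣ q ^ 4 + q ^ 2 :=
      dvd_add (hqa.trans (dvd_pow_self q (by norm_num))) (hqa.trans (dvd_pow_self q (by norm_num)))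
    rw [← hk, Nat.dvd_add_left ⟨r, hjr⟩] at h4
    exact h4
  obtain ⟨K, hK⟩ := hdiv
  have hK3 : ¬ 3 ∣ K := by
    intro h3
    refine hr ?_
    have hqq : 3 ^ (a + 1) ∣ q ^ 4 + q ^ 2 := by
      have h2 : 3 ^ (a + 1) ∣ q ^ 2 := by
        rw [hq, ← pow_mul]
        exact pow_dvd_pow 3 (by omega)
      exact dvd_add (h2.trans (pow_dvd_pow q (by norm_num))) h2
    rw [← hk, hK, hjr, ← Nat.mul_add, pow_succ] at hqq
    have h := (Nat.mul_dvd_mul_iff_left (pow_pos (by norm_num : 0 < 3) a)).1 hqq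
    exact (Nat.dvd_add_right h3).1 h
  have hcop : IsCoprime (K : ℤ) ((q : ℤ) ^ 6) := by
    have hc : Nat.Coprime K (q ^ 6) := by
      rw [hq, ← pow_mul]
      exact Nat.Coprime.pow_right _ ((Nat.prime_three.coprime_iff_not_dvd.2 hK3).symm)
    rw [← Nat.cast_pow]
    exact Nat.Coprime.isCoprime hc
  have hKk : (K : ℤ) ∣ (k : ℤ) := Int.natCast_dvd_natCast.2 ⟨3 ^ a, by rw [hK, mul_comm]⟩
  have hKX := hcop.dvd_of_dvd_mul_right (hKk.trans hdZ)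
  have hkK : (k : ℤ) = (3 : ℤ) ^ a * K := by rw [hK]; push_cast; ring
  have b1 : (2 - j : ℤ) = ((3 : ℤ) ^ a) * K + (-((q : ℤ) ^ 2 + 2)) * ((q : ℤ) ^ 2 - 1) := by
    linear_combination -hkZ + hkK
  have b2 : ((j : ℤ) + 1) = (-((3 : ℤ) ^ a)) * K + 1 * ((q : ℤ) ^ 4 + (q : ℤ) ^ 2 + 1) := by
    linear_combination hkZ - hkK
  have h6 := E6Deg.strip b1 (X := (q : ℤ) ^ 4 + (q : ℤ) ^ 2 + 1) 2 hKX
  have h7 := E6Deg.strip b2 (X := (2 - (j : ℤ)) ^ 2) 1 (by convert h6 using 1; ring)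
  rcases eq_or_ne j 2 with rfl | hj2
  · -- the multiple of the order of the multiplicative group
    have ha0 : a = 0 := by
      rcases Nat.eq_zero_or_pos a with h | h
      · exact h
      · have h' : 3 ∣ 2 := hjr ▸ (dvd_mul_of_dvd_left (dvd_pow_self 3 h.ne') r)
        omega
    subst ha0
    set M : ℤ := (q : ℤ) ^ 2 + 2 with hM
    have hkM : (k : ℤ) = ((q : ℤ) ^ 2 - 1) * M := by rw [hM]; push_cast at hkZ; linear_combination hkZ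
    have h : M ∣ (((q : ℤ) ^ 4 + (q : ℤ) ^ 2 + 1) * ((q : ℤ) ^ 2 - 1) ^ 2) * (q : ℤ) ^ 6 :=
      dvd_trans ⟨(q : ℤ) ^ 2 - 1, by rw [hkM]; ring⟩ hdZ
    have c0 : (2 : ℤ) = 1 * M + (-(q : ℤ)) * (q : ℤ) := by rw [hM]; ring
    have c1 : (3 : ℤ) = 1 * M + (-1) * ((q : ℤ) ^ 2 - 1) := by rw [hM]; ring
    have c2 : (3 : ℤ) = (-((q : ℤ) ^ 2 - 1)) * M + 1 * ((q : ℤ) ^ 4 + (q : ℤ) ^ 2 + 1) := by
      rw [hM]; ring
    have d0 := E6Deg.strip c0 (X := ((q : ℤ) ^ 4 + (q : ℤ) ^ 2 + 1) * ((q : ℤ) ^ 2 - 1) ^ 2) 6 h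
    have d1 := E6Deg.strip c1 (X := ((q : ℤ) ^ 4 + (q : ℤ) ^ 2 + 1) * 2 ^ 6) 2
      (by convert d0 using 1; ring)
    have d2 := E6Deg.strip c2 (X := (2 : ℤ) ^ 6 * 3 ^ 2) 1 (by convert d1 using 1; ring)
    -- coprime to six
    have hodd : ¬ (2 : ℤ) ∣ M := by
      rw [hM, hq]
      push_cast
      intro h2
      have : (2 : ℤ) ∣ ((3 : ℤ) ^ f) ^ 2 := (dvd_add_left (dvd_refl 2)).1 h2
      rw [← pow_mul] at this
      exact absurd (Int.prime_two.dvd_of_dvd_pow this) (by decide)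
    have h3M : ¬ (3 : ℤ) ∣ M := by
      rw [hM]
      intro h3
      have h4 : (3 : ℤ) ∣ (q : ℤ) ^ 2 := dvd_pow (by rw [hq]; push_cast; exact dvd_pow_self 3 (by omega)) (by norm_num)
      exact absurd ((dvd_add_right h4).1 h3) (by decide)
    have hc : IsCoprime M ((2 : ℤ) ^ 6 * 3 ^ 2 * 3 ^ 1) :=
      (((Int.prime_two.coprime_iff_not_dvd).2 hodd).symm.pow_right.mul_right
        ((Int.prime_three.coprime_iff_not_dvd).2 h3M).symm.pow_right).mul_right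
        ((Int.prime_three.coprime_iff_not_dvd).2 h3M).symm.pow_right
    have hu := hc.isUnit_of_dvd' dvd_rfl d2
    have := Int.isUnit_iff.1 hu
    have : (81 : ℤ) ≤ (q : ℤ) ^ 2 := by exact_mod_cast (by omega : 81 ≤ q ^ 2)
    rw [hM] at *
    omega
  have hpos : 0 < (2 - (j : ℤ)) ^ 2 * ((j : ℤ) + 1) ^ 1 :=
    mul_pos (pow_two_pos_of_ne_zero (by omega)) (pow_pos (by omega) _)
  have hle := Int.le_of_dvd hpos h7
  rw [pow_one] at hle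
  have hjq : (j : ℤ) ≤ (q : ℤ) + 1 := by exact_mod_cast hj
  have hj1 : (1 : ℤ) ≤ j := by exact_mod_cast hj0
  have hjsq : (2 - (j : ℤ)) ^ 2 ≤ ((q : ℤ) - 1) ^ 2 := by
    have hq' : (9 : ℤ) ≤ q := by exact_mod_cast hq9
    nlinarith
  have hbound : (K : ℤ) ≤ ((q : ℤ) - 1) ^ 2 * ((q : ℤ) + 2) :=
    hle.trans (mul_le_mul hjsq (by omega) (by omega) (sq_nonneg _))
  have hq' : (9 : ℤ) ≤ q := by exact_mod_cast hq9
  rcases eq_or_lt_of_le hale with rfl | hlt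
  · have hj' : j = q := by
      rw [← hq] at hjr
      have : r ≤ 1 := by
        by_contra h
        have := Nat.mul_le_mul_left q (show 2 ≤ r by omega)
        omega
      rw [hjr, show r = 1 by omega, mul_one]
    rw [hj'] at hle hkZ
    rw [show ((3 : ℤ) ^ a) = (q : ℤ) by rw [hq]; push_cast; rfl] at hkK
    have hK' : (K : ℤ) = (q : ℤ) ^ 3 + (q : ℤ) - 1 :=
      mul_left_cancel₀ (show (q : ℤ) ≠ 0 by omega) (by linear_combination hkZ - hkK)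
    rw [hK'] at hle
    nlinarith
  · have h3a : 3 * (3 : ℤ) ^ a ≤ q := by
      rw [hq, ← pow_succ']; push_cast
      exact pow_le_pow_right₀ (by norm_num) hlt
    have h1 : 3 * (k : ℤ) ≤ (q : ℤ) * (((q : ℤ) - 1) ^ 2 * ((q : ℤ) + 2)) := by
      rw [hkK, ← mul_assoc]
      exact mul_le_mul h3a hbound (by omega) (by omega)
    nlinarith

end Cfsg.Agent.G2Deg
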