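import Cfsg.Agent.G2Deg.Stats
import Cfsg.Agent.G2Deg.Fibres
import Cfsg.Agent.G2Deg.ThreeArith
import Cfsg.Agent.Chev.Special.Graph
import Cfsg.Agent.S1059

/-!
The bound in characteristic three.
-/

set_option autoImplicit false
set_option maxRecDepth 100000

namespace Cfsg.Agent.G2Deg

open Cfsg.Lie Cfsg.Agent.Chev

universe u

variable {F : Type u} [Field F] [Fintype F] [DecidableEq F]

/-- What one side provides. -/
structure Side (F : Type u) [Field F] [Fintype F] [DecidableEq F] (k : ℕ) where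
  D : (Fin 4 → F) → ℕ
  W : ℕ
  m₀ : ℕ
  m₁ : ℕ
  T : ℕ
  hW : Wt D
  hdeg : k = SS D (fun _ => True) + Fintype.card F * ((Fintype.card F - 1) * T)
  hlead : SS D (fun B => B 0 ≠ 0) = (Fintype.card F - 1) * T
  hpos : 0 < T
  hT : T = m₀ + (Fintype.card F ^ 2 - 1) * m₁
  hWdeg : k = W + Fintype.card F *
    ((Fintype.card F - 1) * (mid D 1 0 + Fintype.card F * (Fintype.card F - 1) * m₁))

theorem exists_side (h3 : (3 : F) = 0) {k : ℕ} (ρ : Representation ℂ (Gp F) (Fin k → ℂ))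
    (hρ : ρ.IsIrreducible) (hk : 2 ≤ k) :
    ∃ S : Side F k, S.D = mult ρ ∧
      ∑ u, ρ.character (xs 2 u) = (Fintype.card F : ℂ) * S.W := by
  obtain ⟨W, m₀, m₁, hW1, hW2, hW3⟩ := stats ρ h3
  set q := Fintype.card F with hqdef
  have hq2 : 2 ≤ q := Fintype.one_lt_card
  have hq3 : 3 ≤ q := by
    by_contra hlt
    have h2 : q = 2 := by omega
    have : ((2 : ℕ) : F) = 0 := by rw [← h2, hqdef]; exact FiniteField.cast_card_eq_zero F
    exact two_ne h3 (by exact_mod_cast this)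
  have hdeg := degree_eq ρ
  rw [← hqdef] at hdeg
  set T := m₀ + (q ^ 2 - 1) * m₁ with hT
  have hn : nn ρ = (q - 1) * T := by
    refine Nat.eq_of_mul_eq_mul_left (show 0 < q by omega) ?_
    have h' : (q - 1) * (q * T) = q * ((q - 1) * T) := by ring
    omega
  have hpos : 0 < T := by
    refine Nat.pos_of_ne_zero fun h0 => ?_
    have := nn_pos ρ hρ hk (hqdef ▸ hq3)
    rw [hn, h0, mul_zero] at this
    exact lt_irrefl _ this
  refine ⟨⟨mult ρ, W, m₀, m₁, T, wt ρ, by rw [← hn]; exact hdeg, hn, hpos, rfl, ?_⟩, rfl, hW1⟩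
  have hsum := (wt ρ).sum_quad h3
  have hsp : ww ρ = SS (mult ρ) (fun B => B 2 = 0) + SS (mult ρ) (fun B => B 2 ≠ 0) := by
    simp only [ww, SS, Finset.filter_true]
    exact (Finset.sum_filter_add_sum_filter_not _ _ _).symm
  rw [hsum, ← hqdef] at hsp
  rw [hn, hsp] at hdeg
  rw [← hqdef]
  set X := mid (mult ρ) 1 0
  have e : (q ^ 2 - 1) = (q - 1) + q * (q - 1) := by
    obtain ⟨j, hj⟩ : ∃ j, q = j + 1 := ⟨q - 1, by omega⟩
    rw [hj, Nat.add_sub_cancel]
    refine Nat.sub_eq_of_eq_add ?_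
    ring
  rw [hdeg, hT, hW3, e]
  ring

/-- The degree bound from two sides interchanged by the graph automorphism. -/
theorem combine (h3 : (3 : F) = 0) {k : ℕ} (hq9 : 9 ≤ Fintype.card F) (A B : Side F k)
    (hAB : B.T = mid A.D 1 0 + Fintype.card F * (Fintype.card F - 1) * A.m₁)
    (hBA : A.T = mid B.D 1 0 + Fintype.card F * (Fintype.card F - 1) * B.m₁) :
    Fintype.card F ^ 4 + Fintype.card F ^ 2 + 1 ≤ k ∨
      ∃ j, j ≤ Fintype.card F + 1 ∧ k + j = Fintype.card F ^ 4 + Fintype.card F ^ 2 := by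
  obtain ⟨D, W, m₀, m₁, T, hW, hdeg, hlead, hpos, hT, hWd⟩ := A
  obtain ⟨D', W', m₀', m₁', T', hW', hdeg', hlead', hpos', hT', hWd'⟩ := B
  dsimp only at hAB hBA
  set q := Fintype.card F with hqdef
  have key : ∀ {E : (Fin 4 → F) → ℕ} {t : ℕ}, Wt E → SS E (fun B => B 0 ≠ 0) = (q - 1) * t →
      (q - 2) * mid E 1 0 ≤ t := fun {E t} hE hl => by
    have h := hE.nonroot_bound
    rw [hE.sum_ne h3, hl, ← hqdef] at h
    obtain ⟨j, hj⟩ : ∃ j, q = j + 2 := ⟨q - 2, by omega⟩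
    rw [hj, show (j + 2) ^ 2 - 1 = (j + 3) * (j + 1) from Nat.sub_eq_of_eq_add (by ring),
      Nat.add_sub_cancel, show j + 2 - 1 = j + 1 by omega] at h
    rw [hj, Nat.add_sub_cancel]
    refine le_of_mul_le_mul_left (a := (j + 3) * (j + 1)) ?_ (by positivity)
    calc (j + 3) * (j + 1) * (j * mid E 1 0) = j * ((j + 3) * (j + 1) * mid E 1 0) := by ring
      _ ≤ _ := Nat.mul_le_mul_left j (Nat.le_add_right _ _)
      _ ≤ _ := h
      _ = (j + 3) * (j + 1) * t := by ring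
  have hX := key hW hlead
  have hX' := key hW' hlead'
  rw [SS_true, hW.sum_ne h3, ← hqdef] at hdeg
  rw [SS_true, hW'.sum_ne h3, ← hqdef] at hdeg'
  set X := mid D 1 0 with hXdef
  set X' := mid D' 1 0 with hX'def
  set d₁ := D ![1, 0, 0, 0]
  obtain ⟨n, hn⟩ : ∃ n, q = n + 9 := ⟨q - 9, by omega⟩
  rcases Nat.eq_zero_or_pos m₁' with hm' | hm'
  · -- the other side without faithful part
    rw [hm', mul_zero, add_zero] at hBA
    rcases Nat.eq_zero_or_pos m₁ with hm | hm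
    · rw [hm, mul_zero, add_zero] at hAB
      rw [← hAB] at hX
      rw [← hBA] at hX'
      have h2 : 2 * T ≤ (q - 2) * T := Nat.mul_le_mul_right _ (by omega)
      have h3' : 2 * T' ≤ (q - 2) * T' := Nat.mul_le_mul_right _ (by omega)
      omega
    · left
      have hTlow : q ^ 2 - 1 ≤ T := by
        rw [hT]; exact le_add_left (Nat.le_mul_of_pos_right _ hm)
      rw [← hBA] at hX'
      have h1 : (q - 2) * (q ^ 2 - 1) ≤ T' := le_trans (Nat.mul_le_mul_left _ hTlow) hX'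
      have h2 : q * ((q - 1) * ((q - 2) * (q ^ 2 - 1))) ≤ k := by
        have := Nat.mul_le_mul_left q (Nat.mul_le_mul_left (q - 1) h1)
        omega
      refine le_trans ?_ h2
      rw [hn, show n + 9 - 1 = n + 8 by omega, show n + 9 - 2 = n + 7 by omega,
        show (n + 9) ^ 2 - 1 = (n + 10) * (n + 8) from Nat.sub_eq_of_eq_add (by ring)]
      ring_nf; omega
  rcases Nat.eq_zero_or_pos m₁ with hm | hm
  · left
    rw [hm, mul_zero, add_zero] at hAB
    have hTlow : q ^ 2 - 1 ≤ T' := by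
      rw [hT']; exact le_add_left (Nat.le_mul_of_pos_right _ hm')
    rw [← hAB] at hX
    have h1 : (q - 2) * (q ^ 2 - 1) ≤ T := le_trans (Nat.mul_le_mul_left _ hTlow) hX
    have h2 : q * ((q - 1) * ((q - 2) * (q ^ 2 - 1))) ≤ k := by
      have := Nat.mul_le_mul_left q (Nat.mul_le_mul_left (q - 1) h1)
      omega
    refine le_trans ?_ h2
    rw [hn, show n + 9 - 1 = n + 8 by omega, show n + 9 - 2 = n + 7 by omega,
      show (n + 9) ^ 2 - 1 = (n + 10) * (n + 8) from Nat.sub_eq_of_eq_add (by ring)]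
    ring_nf; omega
  -- both sides
  have hT'low : q ^ 2 - 1 ≤ T' := by
    rw [hT']; exact le_add_left (Nat.le_mul_of_pos_right _ hm')
  have hTlow : q ^ 2 - 1 ≤ T := by
    rw [hT]; exact le_add_left (Nat.le_mul_of_pos_right _ hm)
  rcases (by omega : m₁ = 1 ∨ 2 ≤ m₁) with hm1 | hm2
  swap
  · left
    have h1 : 2 * (q ^ 2 - 1) ≤ T := by
      rw [hT, mul_comm]; exact le_add_left (Nat.mul_le_mul_left _ hm2)
    have h2 : q * ((q - 1) * (2 * (q ^ 2 - 1))) ≤ k := by
      have := Nat.mul_le_mul_left q (Nat.mul_le_mul_left (q - 1) h1)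
      omega
    refine le_trans ?_ h2
    rw [hn, show n + 9 - 1 = n + 8 by omega,
      show (n + 9) ^ 2 - 1 = (n + 10) * (n + 8) from Nat.sub_eq_of_eq_add (by ring)]
    ring_nf; omega
  rw [hm1, mul_one] at hAB hT
  have hXlow : q - 1 ≤ X := by
    have e : q ^ 2 - 1 = (q - 1) + q * (q - 1) := by
      rw [hn, show n + 9 - 1 = n + 8 by omega]
      refine Nat.sub_eq_of_eq_add ?_
      ring
    omega
  have hTk : q * ((q - 1) * (q ^ 2 - 1)) ≤ q * ((q - 1) * T) :=
    Nat.mul_le_mul_left _ (Nat.mul_le_mul_left _ hTlow)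
  by_cases hno : NoBig D
  swap
  · left
    unfold NoBig at hno
    push Not at hno
    obtain ⟨C, h1, h2, hC3, hd⟩ := hno
    have hb := (Nat.le_mul_of_pos_right _ (Nat.pos_of_ne_zero hd)).trans (hW.mid_big h3 h1 h2 hC3)
    rw [← hqdef, ← hXdef] at hb
    have hk' : (q ^ 2 - 1) * X + q * ((q - 1) * (q ^ 2 - 1)) ≤ k := by omega
    simp only [hn, show n + 9 - 1 = n + 8 by omega,
      show (n + 9) ^ 2 - 1 = (n + 10) * (n + 8) from Nat.sub_eq_of_eq_add (by ring)] at hk' ⊢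
    rw [hn, show n + 9 - 1 = n + 8 by omega] at hb
    nlinarith [Nat.zero_le n, Nat.mul_le_mul_left ((n + 10) * (n + 8)) hb]
  have hmid := hW.mid_small hno
  rw [← hqdef, ← hXdef] at hmid
  set d₂ := D ![0, 1, 0, 0]
  have hd2 : 1 ≤ d₂ := by
    refine Nat.pos_of_ne_zero fun h0 => ?_
    rw [hmid, h0, mul_zero] at hXlow
    omega
  have hlead3 := hW.sum_lead h3 hno
  rw [hW.SS_infty, hlead, ← hqdef] at hlead3
  have hTeq : T = q * d₁ + q * (q - 1) * d₂ :=
    Nat.eq_of_mul_eq_mul_left (show 0 < q - 1 by omega) (hlead3.trans (by ring))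
  have h2b : ∀ c, q * 2 ≤ c → c ≤ X → q ^ 4 + q ^ 2 + 1 ≤ k := fun c hc hcX => by
    have h1 := Nat.mul_le_mul_left (q ^ 2 - 1) (hc.trans hcX)
    have hk' : (q ^ 2 - 1) * (q * 2) + q * ((q - 1) * (q ^ 2 - 1)) ≤ k := by omega
    refine le_trans ?_ hk'
    rw [hn, show n + 9 - 1 = n + 8 by omega,
      show (n + 9) ^ 2 - 1 = (n + 10) * (n + 8) from Nat.sub_eq_of_eq_add (by ring)]
    ring_nf; omega
  rcases (by omega : d₂ = 1 ∨ 2 ≤ d₂) with hd21 | hd22
  swap
  · exact Or.inl (h2b _ (Nat.mul_le_mul_left q hd22) hmid.ge)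
  rw [hd21, mul_one] at hmid hTeq
  have hd1 : 1 ≤ d₁ := by
    refine Nat.pos_of_ne_zero fun h0 => ?_
    have e : q * (q - 1) + q = q ^ 2 := by
      rw [hn, show n + 9 - 1 = n + 8 by omega]; ring
    rw [h0, mul_zero, zero_add] at hTeq
    omega
  rw [hmid, hTeq] at hdeg
  rcases (by omega : d₁ = 1 ∨ 2 ≤ d₁) with hd11 | hd12
  swap
  · left
    simp only [hn, show n + 9 - 1 = n + 8 by omega,
      show (n + 9) ^ 2 - 1 = (n + 10) * (n + 8) from Nat.sub_eq_of_eq_add (by ring)] at hdeg ⊢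
    nlinarith [Nat.mul_le_mul_left ((n + 10) * (n + 8)) hd12,
      Nat.mul_le_mul_left ((n + 9) * ((n + 8) * (n + 9))) hd12, Nat.zero_le n]
  · rw [hd11, mul_one, mul_one] at hdeg
    have e : k + (q + 1) = D 0 + (q ^ 4 + q ^ 2) := by
      rw [hdeg, hn, show n + 9 - 1 = n + 8 by omega,
        show (n + 9) ^ 2 - 1 = (n + 10) * (n + 8) from Nat.sub_eq_of_eq_add (by ring)]
      ring
    by_cases hD0 : q + 2 ≤ D 0
    · left; omega
    · right; exact ⟨q + 1 - D 0, by omega, by omega⟩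

/-- The graph automorphism on the two roots. -/
theorem exists_twin (h3 : (3 : F) = 0) (hq : 3 ≤ Fintype.card F) :
    ∃ α : Gp F ≃* Gp F, (∀ v, α (zz v) = xs 2 v) ∧ ∀ v, α (xs 2 v) = zz (v ^ 3) := by
  haveI : CharP F g2Spec.p := by
    obtain ⟨p, hp⟩ := CharP.exists F
    have : p ∣ 3 := (CharP.cast_eq_zero_iff F p 3).1 (by exact_mod_cast h3)
    rcases (Nat.dvd_prime Nat.prime_three).1 this with rfl | rfl
    · haveI := hp
      exact absurd rfl (CharP.char_ne_one F 1)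
    · exact hp
  obtain ⟨α, hα⟩ := exists_special_aut g2SpecFacts facts_chevG2 g2_simple' (F := F) fun r x => by
    rcases (g2Spec_pairs r).1 with h | h <;> rw [h]
    · exact ⟨x, pow_one x⟩
    · exact cube_surj h3 x
  have hρ11 : ((g2Spec.ρ ⟨11, by decide⟩ : Fin chevG2.nroots) : ℕ) = 9 ∧
      g2Spec.lam ⟨11, by decide⟩ = 1 ∧
      ((g2Spec.ρ ⟨9, by decide⟩ : Fin chevG2.nroots) : ℕ) = 11 ∧
      g2Spec.lam ⟨9, by decide⟩ = 3 := by decide +kernel
  obtain ⟨r1, l1, r2, l2⟩ := hρ11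
  refine ⟨α, fun v => Subtype.ext (Units.ext ?_), fun v => Subtype.ext (Units.ext ?_)⟩
  · rw [hα (zz v) ⟨11, by decide⟩ v (xG_val facts_chevG2 _ _), r1, l1, pow_one]
    exact (xG_val facts_chevG2 _ _).symm
  · rw [hα (xs 2 v) ⟨9, by decide⟩ v (xG_val facts_chevG2 _ _), r2, l2]
    exact (xG_val facts_chevG2 _ _).symm

/-- The bound in characteristic three. -/
theorem three_bound (h0 : Fintype.card F % 3 = 0) (h4 : 3 < Fintype.card F) {k : ℕ}
    (ρ : Representation ℂ (Gp F) (Fin k → ℂ)) (hρ : ρ.IsIrreducible) (hk : 2 ≤ k) :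
    Fintype.card F ^ 4 + Fintype.card F ^ 2 + 1 ≤ k := by
  classical
  set q := Fintype.card F with hqdef
  obtain ⟨p, hp⟩ := CharP.exists F
  obtain ⟨f, hpp, hqf⟩ := FiniteField.card F p
  obtain rfl : p = 3 := by
    have h : (3 : ℕ) ∣ p ^ (f : ℕ) := by rw [← hqf, ← hqdef]; omega
    exact ((Nat.prime_dvd_prime_iff_eq Nat.prime_three hpp).1 (Nat.prime_three.dvd_of_dvd_pow h)).symm
  rw [← hqdef] at hqf
  have h3 : (3 : F) = 0 := by exact_mod_cast CharP.cast_eq_zero F 3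
  have hf : 2 ≤ (f : ℕ) := by
    by_contra hlt
    have h1 : (f : ℕ) = 1 := by have := f.pos; omega
    rw [h1, pow_one] at hqf
    omega
  have hq9 : 9 ≤ q := by
    rw [hqf]
    exact le_trans (by norm_num) (Nat.pow_le_pow_right (by norm_num : 0 < 3) hf)
  have hqC : (q : ℂ) ≠ 0 := Nat.cast_ne_zero.2 (by omega)
  obtain ⟨α, hz, hx⟩ := exists_twin h3 (by omega)
  set ρ' : Representation ℂ (Gp F) (Fin k → ℂ) := ρ.comp α.toMonoidHom with hρ'
  have hirr : ρ'.IsIrreducible := by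
    rw [Char.isIrreducible_iff] at hρ ⊢
    refine ⟨hρ.1, fun U hU => hρ.2 U fun g v hv => ?_⟩
    have h := hU (α.symm g) v hv
    rwa [hρ', MonoidHom.comp_apply, MulEquiv.coe_toMonoidHom, MulEquiv.apply_symm_apply] at h
  obtain ⟨A, hAD, hAW⟩ := exists_side h3 ρ hρ hk
  obtain ⟨B, hBD, hBW⟩ := exists_side h3 ρ' hirr hk
  have e1 : A.W = ww ρ' := by
    have h : (q : ℂ) * A.W = (q : ℂ) * ww ρ' := by
      rw [← hAW, ← sum_char_zz ρ']
      refine Finset.sum_congr rfl fun v _ => ?_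
      show ρ.character (xs 2 v) = ρ.character (α (zz v))
      rw [hz]
    exact_mod_cast mul_left_cancel₀ hqC h
  have e2 : B.W = ww ρ := by
    have h : (q : ℂ) * B.W = (q : ℂ) * ww ρ := by
      rw [← hBW, ← sum_char_zz ρ]
      have hb : Function.Bijective fun v : F => v ^ 3 :=
        Finite.surjective_iff_bijective.1 (cube_surj h3)
      refine Fintype.sum_equiv (Equiv.ofBijective _ hb) _ _ fun v => ?_
      show ρ.character (α (xs 2 v)) = ρ.character (zz (v ^ 3))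
      rw [hx]
    exact_mod_cast mul_left_cancel₀ hqC h
  have cancel : ∀ {a b w : ℕ}, k = w + q * ((q - 1) * a) → k = w + q * ((q - 1) * b) → a = b :=
    fun h1 h2 => Nat.eq_of_mul_eq_mul_left (show 0 < q - 1 by omega)
      (Nat.eq_of_mul_eq_mul_left (show 0 < q by omega) (Nat.add_left_cancel (h1.symm.trans h2)))
  have hAB : B.T = mid A.D 1 0 + q * (q - 1) * A.m₁ := by
    refine cancel (w := A.W) ?_ A.hWdeg
    rw [e1, ww, ← hBD]; exact B.hdeg
  have hBA : A.T = mid B.D 1 0 + q * (q - 1) * B.m₁ := by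
    refine cancel (w := B.W) ?_ B.hWdeg
    rw [e2, ww, ← hAD]; exact A.hdeg
  rcases combine h3 hq9 A B hAB hBA with h | ⟨j, hj, hkj⟩
  · exact h
  · exfalso
    refine no_window hf hqf hkj hj ?_
    have hcard := S1059.result (F := F) (q := q) rfl
    rw [← hcard]
    exact Char.IsIrr.degree_dvd_card (χ := ρ.character) ⟨_, ρ, hρ, rfl⟩
      (by rw [Representation.char_one, Module.finrank_fin_fun])

end Cfsg.Agent.G2Deg
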